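import Groth.Agent.McCoy.HilbertBurch
import Groth.Agent.S12907
import Mathlib.LinearAlgebra.Matrix.Adjugate

/-! The Hilbert–Burch complex of a matrix, and relations orthogonal to it. -/

set_option autoImplicit false
universe u

open scoped Matrix
open Groth.Agent.McCoy (delta)

namespace Groth.Agent.HBLift76

variable {R : Type u} [CommRing R] {r : ℕ}

/-- The Hilbert–Burch complex `0 → R^r → R^(r+1) → R` of a matrix is exact. -/
structure Ex (Φ : Matrix (Fin (r + 1)) (Fin r) R) : Prop where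
  inj : Function.Injective Φ.mulVecLin
  ker : ∀ v : Fin (r + 1) → R, ∑ i, delta Φ i * v i = 0 → ∃ w, Φ *ᵥ w = v

theorem ex_iff (Φ : Matrix (Fin (r + 1)) (Fin r) R) :
    Ex Φ ↔ (Function.Injective Φ.mulVecLin ∧ LinearMap.range Φ.mulVecLin =
      LinearMap.ker (Fintype.linearCombination R
        (fun i : Fin (r + 1) => (-1 : R) ^ (i : ℕ) * (Φ.submatrix i.succAbove id).det))) := by
  have h : ∀ v, Fintype.linearCombination R
      (fun i : Fin (r + 1) => (-1 : R) ^ (i : ℕ) * (Φ.submatrix i.succAbove id).det) v = ∑ i, delta Φ i * v i :=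
    fun v => by
      rw [Fintype.linearCombination_apply]
      exact Finset.sum_congr rfl fun i _ => mul_comm _ _
  refine ⟨fun hE => ⟨hE.inj, le_antisymm ?_ fun v hv => hE.ker v ((h v).symm.trans hv)⟩,
    fun hE => ⟨hE.1, fun v hv => hE.2.ge (LinearMap.mem_ker.2 ((h v).trans hv))⟩⟩
  rintro _ ⟨w, rfl⟩
  rw [LinearMap.mem_ker, h]
  exact McCoy.sum_delta_mulVec Φ w

theorem delta_map {S : Type u} [CommRing S] (f : R →+* S) (Φ : Matrix (Fin (r + 1)) (Fin r) R) (i : Fin (r + 1)) :
    delta (Φ.map f) i = f (delta Φ i) := by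
  simp only [delta, map_mul, map_pow, map_neg, map_one, RingHom.map_det]
  rfl

theorem span_delta_map {S : Type u} [CommRing S] (f : R →+* S) (Φ : Matrix (Fin (r + 1)) (Fin r) R) :
    (Ideal.span (Set.range (delta Φ))).map f = Ideal.span (Set.range (delta (Φ.map f))) := by
  rw [Ideal.map_span, ← Set.range_comp]
  exact congrArg Ideal.span (congrArg Set.range (funext fun i => (delta_map f Φ i).symm))

/-- A row killing `Φ` is proportional to the signed minors. -/
theorem cross (Φ : Matrix (Fin (r + 1)) (Fin r) R) {e : Fin (r + 1) → R} (he : e ᵥ* Φ = 0)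
    (v : Fin (r + 1) → R) (l : Fin (r + 1)) :
    (∑ i, delta Φ i * v i) * e l = (∑ i, e i * v i) * delta Φ l := by
  let N : Matrix (Fin (r + 1)) (Fin (r + 1)) R := Matrix.of fun i => Fin.cons (v i) (Φ i)
  have hsub : ∀ i : Fin (r + 1), N.submatrix i.succAbove Fin.succ = Φ.submatrix i.succAbove id := fun i => by
    ext a b
    simp [N]
  have hdet : N.det = ∑ i, delta Φ i * v i := by
    rw [Matrix.det_succ_column_zero]
    refine Finset.sum_congr rfl fun i _ => ?_
    rw [hsub]
    simp only [N, Matrix.of_apply, Fin.cons_zero, delta]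
    ring
  have hadj : N.adjugate 0 l = delta Φ l := by
    rw [Matrix.adjugate_fin_succ_eq_det_submatrix]
    simp only [Fin.val_zero, add_zero, Fin.succAbove_zero, hsub, delta]
  have h1 : e ᵥ* N = Fin.cons (∑ i, e i * v i) 0 := by
    funext j
    refine Fin.cases ?_ (fun j => ?_) j
    · simp [N, Matrix.vecMul, dotProduct]
    · simp only [N, Matrix.vecMul, dotProduct, Matrix.of_apply, Fin.cons_succ]
      exact congrFun he j
  have h2 : (e ᵥ* N) ᵥ* N.adjugate = N.det • e := by
    rw [Matrix.vecMul_vecMul, Matrix.mul_adjugate, Matrix.vecMul_smul, Matrix.vecMul_one]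
  have h3 := congrFun h2 l
  rw [h1, Pi.smul_apply, smul_eq_mul, hdet] at h3
  rw [← h3, ← hadj]
  simp only [Matrix.vecMul, dotProduct]
  rw [Fin.sum_univ_succ]
  simp

theorem exists_eq_smul_delta {Φ : Matrix (Fin (r + 1)) (Fin r) R}
    (h : McCoy.HasRegularPair (Ideal.span (Set.range (delta Φ)))) {e : Fin (r + 1) → R} (he : e ᵥ* Φ = 0) :
    ∃ a : R, ∀ i, e i = a * delta Φ i := by
  have key : ∀ x ∈ Ideal.span (Set.range (delta Φ)), ∃ a : R, ∀ l, x * e l = a * delta Φ l := fun x hx => by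
    obtain ⟨v, hv⟩ := Ideal.mem_span_range_iff_exists_fun.1 hx
    exact ⟨∑ i, e i * v i, fun l => by
      rw [← cross Φ he v l, ← hv]
      exact congrArg (· * e l) (Finset.sum_congr rfl fun i _ => mul_comm _ _)⟩
  rcases h with htop | ⟨x, hx, y, hy, hxr, hxy⟩
  · obtain ⟨a, ha⟩ := key 1 (htop ▸ Submodule.mem_top)
    exact ⟨a, fun i => by rw [← ha i, one_mul]⟩
  obtain ⟨a, ha⟩ := key x hx
  obtain ⟨b, hb⟩ := key y hy
  have hab : y * a = x * b := by
    rw [← sub_eq_zero]
    refine (mem_nonZeroDivisors_iff_right.1 hxr) _ ?_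
    suffices ∀ z ∈ Ideal.span (Set.range (delta Φ)), (y * a - x * b) * z = 0 from this x hx
    intro z hz
    induction hz using Submodule.span_induction with
    | mem z hz =>
      obtain ⟨l, rfl⟩ := hz
      linear_combination -(y * ha l) + x * hb l
    | zero => rw [mul_zero]
    | add a b _ _ ha hb => rw [mul_add, ha, hb, add_zero]
    | smul c a _ ha => rw [smul_eq_mul, mul_left_comm, ha, mul_zero]
  obtain ⟨c, rfl⟩ := hxy a ⟨b, hab⟩
  exact ⟨c, fun i => (mul_cancel_left_mem_nonZeroDivisors hxr).1 (by rw [ha i, mul_assoc])⟩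

/-- An exact Hilbert–Burch complex over a Noetherian ring has minors of grade at least two. -/
theorem Ex.hasRegularPair [IsNoetherianRing R] {Φ : Matrix (Fin (r + 1)) (Fin r) R} (h : Ex Φ) :
    McCoy.HasRegularPair (Ideal.span (Set.range (delta Φ))) := by
  rcases subsingleton_or_nontrivial R with hR | hR
  · exact Or.inl (Subsingleton.elim _ _)
  obtain ⟨h1, h2⟩ := (ex_iff Φ).1 h
  have hne : LinearMap.range (Fintype.linearCombination R
      (fun i : Fin (r + 1) => (-1 : R) ^ (i : ℕ) * (Φ.submatrix i.succAbove id).det)) ≠ ⊥ := fun h0 => by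
    rw [LinearMap.range_eq_bot] at h0
    rw [h0, LinearMap.ker_zero] at h2
    have h5 := (LinearEquiv.ofBijective Φ.mulVecLin ⟨h1, LinearMap.range_eq_top.1 h2⟩).finrank_eq
    rw [Module.finrank_fin_fun, Module.finrank_fin_fun] at h5
    omega
  have h3 := (S12907.result r (r + 1) Φ _ (LinearMap.ker_eq_bot.2 h1) h2.symm hne).2.2
  rw [← McCoy.minorIdeal_eq_span_delta]
  exact McCoy.hasRegularPair_of_idealDepth h3

theorem Ex.leftKer [IsNoetherianRing R] {Φ : Matrix (Fin (r + 1)) (Fin r) R} (h : Ex Φ)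
    {e : Fin (r + 1) → R} (he : e ᵥ* Φ = 0) : ∃ a : R, ∀ i, e i = a * delta Φ i :=
  exists_eq_smul_delta h.hasRegularPair he

end Groth.Agent.HBLift76
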