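import Groth.Agent.HilbLci76.Extend
import Groth.Agent.HilbLci76.Main
import Groth.Agent.Lib.PnDualSheafHom
import Groth.Agent.AmpleVan.LiftFibre
import Groth.Agent.QCoh.VanIdeal

/-! Extending morphisms when `H¹` of the normal sheaf vanishes. -/

set_option autoImplicit false
set_option linter.style.haveILetI false
set_option backward.isDefEq.respectTransparency false
set_option backward.isDefEq.respectTransparency.types false

universe u

open CategoryTheory CategoryTheory.Limits AlgebraicGeometry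

namespace Groth.Agent.HBLift76

open Groth.Agent

theorem isSplitMono_map_of_iso {C D : Type*} [Category C] [Category D] {F G : C ⥤ D} (e : F ≅ G) {A B : C}
    (f : A ⟶ B) (h : IsSplitMono (F.map f)) : IsSplitMono (G.map f) := by
  obtain ⟨⟨r, hr⟩⟩ := h.exists_splitMono
  refine ⟨⟨⟨e.inv.app B ≫ r ≫ e.hom.app A, ?_⟩⟩⟩
  rw [e.inv.naturality_assoc, reassoc_of% hr, Iso.inv_hom_id_app]

/-- A locally split extension with `H¹` of the sheaf `Hom` zero is split. -/
theorem exists_section {Y : Scheme.{u}} {S : ShortComplex Y.Modules} (hS : S.ShortExact)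
    (hloc : ∀ y : Y, ∃ W : Y.Opens, y ∈ W ∧ IsSplitMono ((Scheme.Modules.restrictFunctor W.ι).map S.f))
    (h1 : Subsingleton (Coh.HH Y ((SheafHomX.hom S.X₃).obj S.X₁) 1)) :
    ∃ s : S.X₃ ⟶ S.X₂, s ≫ S.g = 𝟙 _ := by
  let F := SheafHomX.hom S.X₃
  haveI : PreservesLimits F := (SheafHomX.adj S.X₃).rightAdjoint_preservesLimits
  haveI : PreservesFiniteLimits F := inferInstance
  haveI : F.Additive := Functor.additive_of_preserves_binary_products _
  obtain ⟨hex, hmono⟩ := ((Functor.preservesFiniteLimits_tfae F).out 3 0 rfl rfl).1 inferInstance S hS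
  haveI : Epi (F.map S.g) := by
    refine ⟨fun {T} s t hst => H23.ModLoc.hom_ext_of_locally s t fun x => ?_⟩
    obtain ⟨W, hxW, hW⟩ := hloc x
    let R := Scheme.Modules.restrictFunctor W.ι
    haveI : R.Additive := Functor.additive_of_preserves_binary_products _
    haveI := hS.mono_f
    haveI := hS.epi_g
    have hSR : (S.map R).ShortExact := hS.map_of_exact R
    obtain ⟨⟨r, hr⟩⟩ := hW.exists_splitMono
    let spl := ShortComplex.Splitting.ofExactOfRetraction _ hSR.exact r hr hSR.epi_g
    haveI : IsSplitEpi (R.map S.g) := spl.isSplitEpi_g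
    refine ⟨W, hxW, ?_⟩
    suffices he : Epi (R.map (F.map S.g)) by
      haveI := he
      rw [← cancel_epi (R.map (F.map S.g)), ← Functor.map_comp, ← Functor.map_comp, hst]
    have : Epi (R.map (F.map S.g) ≫ (SheafHomX.restrictIso W.ι S.X₃).hom.app _) := by
      rw [SheafHomX.restrict_map]; infer_instance
    exact (epi_comp_iff_of_isIso _ _).1 this
  have hF : (S.map F).ShortExact := { exact := hex, mono_f := hmono, epi_g := inferInstanceAs (Epi (F.map S.g)) }
  haveI : (PnDual.homAb S.X₃).Additive := inferInstance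
  have hA : (S.map (PnDual.homAb S.X₃)).ShortExact := QCoh.toAb_shortExact hF
  let e := PnDual.homAbEquiv S.X₃ S.X₃ (𝟙 _)
  obtain ⟨x, hx⟩ := Abelian.Ext.covariant_sequence_exact₃ _ hA (Abelian.Ext.mk₀ e) (zero_add 1) (h1.elim _ _)
  obtain ⟨u', rfl⟩ := (Abelian.Ext.mk₀_bijective _ _).2 x
  rw [Abelian.Ext.mk₀_comp_mk₀] at hx
  have hu : u' ≫ (PnDual.homAb S.X₃).map S.g = e := (Abelian.Ext.mk₀_bijective _ _).1 hx
  refine ⟨(PnDual.homAbEquiv S.X₃ S.X₂).symm u', (PnDual.homAbEquiv S.X₃ S.X₃).injective ?_⟩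
  rw [PnDual.homAbEquiv_naturality, AddEquiv.apply_symm_apply, hu]

variable {X : Scheme.{u}} (I₀ : X.IdealSheafData)

/-- A morphism on the kernel of `φ : G → I₀` which extends near every point of the closed subscheme extends. -/
theorem exists_extend_of_locally
    (h1 : Subsingleton (Coh.HH I₀.subscheme ((SheafHomX.hom ((Scheme.Modules.pullback I₀.subschemeι).obj
      (ClSub.idealMod I₀))).obj (Coh.structureModule I₀.subscheme)) 1))
    {G : X.Modules} (φ : G ⟶ ClSub.idealMod I₀) [Epi φ] (κ : kernel φ ⟶ ClSub.quotMod I₀)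
    (hloc : ∀ y : I₀.subscheme, ∃ V : X.Opens, I₀.subschemeι y ∈ V ∧
      ∃ θ : (Scheme.Modules.restrictFunctor V.ι).obj G ⟶ (Scheme.Modules.restrictFunctor V.ι).obj (ClSub.quotMod I₀),
        (Scheme.Modules.restrictFunctor V.ι).map (kernel.ι φ) ≫ θ = (Scheme.Modules.restrictFunctor V.ι).map κ) :
    ∃ θ : G ⟶ ClSub.quotMod I₀, kernel.ι φ ≫ θ = κ := by
  let E := pushout (kernel.ι φ) κ
  let a : ClSub.quotMod I₀ ⟶ E := pushout.inr _ _
  let q : E ⟶ ClSub.idealMod I₀ := pushout.desc φ 0 (by rw [kernel.condition, comp_zero])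
  have haq : a ≫ q = 0 := pushout.inr_desc _ _ _
  haveI : Epi q := epi_of_epi_fac (pushout.inl_desc φ 0 (by rw [kernel.condition, comp_zero]) : pushout.inl _ _ ≫ q = φ)
  let p := I₀.subschemeι
  let L := Scheme.Modules.pullback p
  have hsplit : ∀ y : I₀.subscheme, ∃ V : X.Opens, p y ∈ V ∧ ∃ r : (Scheme.Modules.restrictFunctor V.ι).obj E ⟶
      (Scheme.Modules.restrictFunctor V.ι).obj _, (Scheme.Modules.restrictFunctor V.ι).map a ≫ r = 𝟙 _ := fun y => by
    obtain ⟨V, hy, θ, hθ⟩ := hloc y
    have hpo := (IsPushout.of_hasPushout (kernel.ι φ) κ).map (Scheme.Modules.restrictFunctor V.ι)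
    exact ⟨V, hy, hpo.desc θ (𝟙 _) (by rw [hθ, Category.comp_id]), hpo.inr_desc _ _ _⟩
  haveI : Mono (L.map a) := HilbLci76.mono_pullback_of_locally_split p a hsplit
  -- `q` is the cokernel of `a`
  have hcok : IsColimit (CokernelCofork.ofπ q haq) := by
    refine CokernelCofork.IsColimit.ofπ' q haq fun {T} g hg => ?_
    have hg' : kernel.ι φ ≫ pushout.inl _ _ ≫ g = 0 := by
      rw [← Category.assoc, pushout.condition, Category.assoc, hg, comp_zero]
    refine ⟨(Abelian.epiIsCokernelOfKernel _ (kernelIsKernel φ)).desc (CokernelCofork.ofπ _ hg'), pushout.hom_ext ?_ ?_⟩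
    · rw [← Category.assoc, pushout.inl_desc]
      exact (Abelian.epiIsCokernelOfKernel _ (kernelIsKernel φ)).fac (CokernelCofork.ofπ _ hg') WalkingParallelPair.one
    · rw [← Category.assoc, pushout.inr_desc, zero_comp]; exact hg.symm
  haveI : L.IsLeftAdjoint := (Scheme.Modules.pullbackPushforwardAdjunction p).isLeftAdjoint
  let S : ShortComplex I₀.subscheme.Modules := ShortComplex.mk (L.map a) (L.map q)
    (by rw [← L.map_comp, haq, L.map_zero])
  have hS : S.ShortExact :=
    { exact := ShortComplex.exact_of_g_is_cokernel S (CokernelCofork.mapIsColimit _ hcok L)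
      mono_f := inferInstanceAs (Mono (L.map a))
      epi_g := inferInstanceAs (Epi (L.map q)) }
  haveI := AmpleVan.isIso_counit p (QCoh.isQCoh_structureModule (X := I₀.subscheme))
  let eO : L.obj (ClSub.quotMod I₀) ≅ Coh.structureModule I₀.subscheme :=
    asIso ((Scheme.Modules.pullbackPushforwardAdjunction p).counit.app _)
  obtain ⟨s, hs⟩ := exists_section hS (fun y => by
    obtain ⟨V, hy, r, hr⟩ := hsplit y
    haveI : IsSplitMono ((Scheme.Modules.restrictFunctor V.ι).map a) := ⟨⟨⟨r, hr⟩⟩⟩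
    have h1 : IsSplitMono ((Scheme.Modules.pullback V.ι).map a) :=
      isSplitMono_map_of_iso (Scheme.Modules.restrictFunctorIsoPullback V.ι) a inferInstance
    haveI := h1
    let W := p ⁻¹ᵁ V
    have h2 : IsSplitMono ((Scheme.Modules.pullback (W.ι ≫ p)).map a) :=
      isSplitMono_map_of_iso ((Scheme.Modules.pullbackComp (p ∣_ V) V.ι) ≪≫
        Scheme.Modules.pullbackCongr (morphismRestrict_ι p V)) a (by rw [Functor.comp_map]; infer_instance)
    have h3 : IsSplitMono ((Scheme.Modules.pullback W.ι).map ((Scheme.Modules.pullback p).map a)) :=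
      isSplitMono_map_of_iso (Scheme.Modules.pullbackComp W.ι p).symm a h2
    exact ⟨W, hy, isSplitMono_map_of_iso (Scheme.Modules.restrictFunctorIsoPullback W.ι).symm (L.map a) h3⟩)
    (AmpleVan.subsingleton_of_iso ((SheafHomX.hom (L.obj (ClSub.idealMod I₀))).mapIso eO.symm) 1 h1)
  let spl := ShortComplex.Splitting.ofExactOfSection S hS.exact s hs hS.mono_f
  let adj := Scheme.Modules.pullbackPushforwardAdjunction p
  let r' : E ⟶ ClSub.quotMod I₀ := adj.homEquiv _ _ (spl.r ≫ eO.hom)
  have har : a ≫ r' = 𝟙 _ := by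
    show a ≫ adj.homEquiv _ _ (spl.r ≫ eO.hom) = _
    rw [← Adjunction.homEquiv_naturality_left, show L.map a ≫ spl.r ≫ eO.hom = eO.hom by
      rw [← Category.assoc, show L.map a ≫ spl.r = 𝟙 _ from spl.f_r, Category.id_comp], Adjunction.homEquiv_unit]
    exact adj.right_triangle_components (Coh.structureModule I₀.subscheme)
  exact ⟨pushout.inl _ _ ≫ r', by
    rw [← Category.assoc, pushout.condition, Category.assoc, har, Category.comp_id]⟩

end Groth.Agent.HBLift76
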