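import Groth.Agent.HBLift76.Ring

/-! Lifting determinantal ideals along an arbitrary surjection of Artinian local rings. -/

set_option autoImplicit false
set_option linter.style.haveILetI false
universe u

open scoped Matrix
open Groth.Agent.McCoy (delta)
open Groth.Agent.ArtFunLib

namespace Groth.Agent.HBLift76

variable {r : ℕ}

theorem Ex.of_bijective {R S : Type u} [CommRing R] [CommRing S] {π : R →+* S} (h : Function.Bijective π)
    {Φ : Matrix (Fin (r + 1)) (Fin r) R} (hE : Ex (Φ.map π)) : Ex Φ := by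
  refine ⟨(injective_iff_map_eq_zero _).2 fun v hv => ?_, fun v hv => ?_⟩
  · rw [Matrix.mulVecLin_apply] at hv
    have h1 : (fun i => π (v i)) = 0 := hE.inj (by
      rw [map_zero, Matrix.mulVecLin_apply, McCoy.map_mulVec_eq, hv]
      exact funext fun i => map_zero π)
    exact funext fun i => h.1 ((congrFun h1 i).trans (map_zero π).symm)
  · obtain ⟨w, hw⟩ := hE.ker (fun i => π (v i)) (by rw [← map_dot, hv, map_zero])
    obtain ⟨w', hw'⟩ := exists_lift h.2 w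
    refine ⟨w', funext fun i => h.1 ?_⟩
    rw [← congrFun (McCoy.map_mulVec_eq π Φ w') i, show (fun j => π (w' j)) = w from funext hw', hw]

theorem map_map' {R S T : Type u} [CommRing R] [CommRing S] [CommRing T] (f : R →+* S) (g : S →+* T)
    (Φ : Matrix (Fin (r + 1)) (Fin r) R) : (Φ.map f).map g = Φ.map (g.comp f) := rfl

variable {C A : Type u} [CommRing C] [IsLocalRing C] [IsArtinianRing C] [CommRing A] {c : C →+* A}

/-- A model of `C ⧸ J → A ⧸ J A`. -/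
structure Model (c : C →+* A) (J : Ideal C) (C₁ A₁ : Type u) [CommRing C₁] [CommRing A₁] where
  p : C →+* C₁
  π : A →+* A₁
  c₁ : C₁ →+* A₁
  hp : Function.Surjective p
  hπ : Function.Surjective π
  pker : RingHom.ker p = J
  πker : RingHom.ker π = J.map c
  comp : ∀ x, c₁ (p x) = π (c x)

/-- The data of a refinement of a model. -/
theorem exists_refine (hc : c.Flat) {J : Ideal C} {C₁ A₁ : Type u} [CommRing C₁] [CommRing A₁] [IsLocalRing C₁]
    (M : Model c J C₁ A₁) (hJ : J ≠ ⊥) :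
    ∃ J' < J, ∃ (_ : IsLocalRing (C ⧸ J')) (M' : Model c J' (C ⧸ J') (A ⧸ J'.map c)) (π₂ : A ⧸ J'.map c →+* A₁)
      (p₂ : C ⧸ J' →+* C₁) (ρ₂ : A ⧸ J'.map c →+* A ⧸ (IsLocalRing.maximalIdeal C).map c)
      (ρ₁ : A₁ →+* A ⧸ (IsLocalRing.maximalIdeal C).map c) (t : C ⧸ J'),
      RingHom.ker ρ₁ = (IsLocalRing.maximalIdeal C₁).map M.c₁ ∧ Function.Surjective ρ₁ ∧
      π₂.comp M'.π = M.π ∧ ∃ σ : HilbObsRing.Sit (C ⧸ J') C₁ (A ⧸ J'.map c) A₁
          (A ⧸ (IsLocalRing.maximalIdeal C).map c),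
        σ.t = t ∧ σ.c = M'.c₁ ∧ σ.cA = M.c₁ ∧ σ.π = π₂ ∧ σ.ρ = ρ₂ ∧ σ.ρA = ρ₁ ∧ M'.c₁.Flat ∧ σ.p = p₂ ∧
        Step π₂ ρ₂ ρ₁ (M'.c₁ t) := by
  obtain ⟨p, π, c₁, hp, hπ, pker, πker, comp⟩ := M
  obtain ⟨J', t, hlt, htJ, htJ', hsup, hmt⟩ := exists_step_ideal hJ
  have hJtop : J ≠ ⊤ := pker ▸ RingHom.ker_ne_top p
  have hJ'top : J' ≠ ⊤ := fun h => hlt.ne_top h
  haveI : Nontrivial (C ⧸ J') := Ideal.Quotient.nontrivial_iff.2 hJ'top
  haveI hloc : IsLocalRing (C ⧸ J') := .of_surjective' _ Ideal.Quotient.mk_surjective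
  let 𝔪 := IsLocalRing.maximalIdeal C
  let R₀ := A ⧸ 𝔪.map c
  let c₂ : C ⧸ J' →+* A ⧸ J'.map c := Ideal.quotientMap (J'.map c) c Ideal.le_comap_map
  let M' : Model c J' (C ⧸ J') (A ⧸ J'.map c) := ⟨Ideal.Quotient.mk J', Ideal.Quotient.mk _, c₂,
    Ideal.Quotient.mk_surjective, Ideal.Quotient.mk_surjective, Ideal.mk_ker, Ideal.mk_ker, fun _ => rfl⟩
  let p₂ : C ⧸ J' →+* C₁ := Ideal.Quotient.lift J' p fun a ha => RingHom.mem_ker.1 (pker.ge (hlt.le ha))
  let π₂ : A ⧸ J'.map c →+* A₁ := Ideal.Quotient.lift _ π fun a ha =>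
    RingHom.mem_ker.1 (πker.ge (Ideal.map_mono hlt.le ha))
  have hJ'm : J'.map c ≤ 𝔪.map c := Ideal.map_mono (IsLocalRing.le_maximalIdeal hJ'top)
  let ρ₂ : A ⧸ J'.map c →+* R₀ := Ideal.Quotient.factor hJ'm
  let ρ₁ : A₁ →+* R₀ := RingHom.liftOfSurjective π hπ ⟨Ideal.Quotient.mk (𝔪.map c), by
    rw [Ideal.mk_ker, πker]; exact Ideal.map_mono (IsLocalRing.le_maximalIdeal hJtop)⟩
  have hρ₁ : ρ₁.comp π = Ideal.Quotient.mk (𝔪.map c) := RingHom.liftOfRightInverse_comp _ _ _ _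
  have hρ₁s : Function.Surjective ρ₁ := Function.Surjective.of_comp (g := π) (by
    rw [← RingHom.coe_comp, hρ₁]; exact Ideal.Quotient.mk_surjective)
  have hker₁ : RingHom.ker ρ₁ = (IsLocalRing.maximalIdeal C₁).map c₁ := by
    have e : (RingHom.ker ρ₁).comap π = 𝔪.map c := by rw [RingHom.comap_ker, hρ₁, Ideal.mk_ker]
    rw [← IsLocalRing.map_maximalIdeal_of_surjective _ hp, Ideal.map_map,
      show c₁.comp p = π.comp c from RingHom.ext comp, ← Ideal.map_map]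
    exact (Ideal.map_comap_of_surjective π hπ _).symm.trans (congrArg (Ideal.map π) e)
  have hc₂ : c₂.Flat := flat_of_surj c hc Ideal.Quotient.mk_surjective Ideal.Quotient.mk_surjective Ideal.mk_ker
    Ideal.mk_ker fun _ => rfl
  have ht0 : Ideal.Quotient.mk J' t ≠ 0 := fun h => htJ' (Ideal.Quotient.eq_zero_iff_mem.1 h)
  have hp₂ : RingHom.ker p₂ = Ideal.span {Ideal.Quotient.mk J' t} := by
    refine (Ideal.ker_quotient_lift _ _).trans ?_
    rw [pker, ← hsup, Ideal.map_sup, Ideal.map_quotient_self, bot_sup_eq, Ideal.map_span,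
      Set.image_singleton]
  have hπ₂ : RingHom.ker π₂ = Ideal.span {c₂ (Ideal.Quotient.mk J' t)} := by
    refine (Ideal.ker_quotient_lift _ _).trans ?_
    rw [πker, ← hsup, Ideal.map_sup, Ideal.map_sup, Ideal.map_quotient_self, bot_sup_eq,
      Ideal.map_span, Ideal.map_span, Set.image_singleton, Set.image_singleton]
    rfl
  obtain ⟨σ, h1, h2, h3, h4, h5, h6, h7⟩ := exists_sit c₂ hc₂ c₁ p₂ π₂ ρ₂ ρ₁ (Ideal.Quotient.mk J' t)
    (Ideal.Quotient.lift_surjective_of_surjective _ _ hp) hp₂ (fun a ha => by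
      rw [← IsLocalRing.map_maximalIdeal_of_surjective _ Ideal.Quotient.mk_surjective] at ha
      obtain ⟨b, hb, rfl⟩ := (Ideal.mem_map_iff_of_surjective _ Ideal.Quotient.mk_surjective).1 ha
      rw [← map_mul, Ideal.Quotient.eq_zero_iff_mem]
      exact hmt b hb) ht0 (Ideal.Quotient.lift_surjective_of_surjective _ _ hπ)
    (Ideal.Quotient.factor_surjective hJ'm) hπ₂ (fun x => by
      obtain ⟨y, rfl⟩ := Ideal.Quotient.mk_surjective x
      exact comp y) (fun a => by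
      obtain ⟨y, rfl⟩ := Ideal.Quotient.mk_surjective a
      exact RingHom.congr_fun hρ₁ y) (by
      rw [Ideal.Quotient.factor_ker, ← IsLocalRing.map_maximalIdeal_of_surjective _ Ideal.Quotient.mk_surjective,
        Ideal.map_map, Ideal.map_map]
      rfl)
  refine ⟨J', hlt, hloc, M', π₂, σ.p, ρ₂, ρ₁, _, hker₁, hρ₁s, RingHom.ext fun _ => rfl, σ, h1, h2, h3, h4, h5, h6,
    hc₂, rfl, h7⟩

/-- Lifts of an exact Hilbert–Burch complex with flat quotient are exact with flat quotient. -/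
theorem lift_ex (hc : c.Flat) (Φ : Matrix (Fin (r + 1)) (Fin r) A) : ∀ (J : Ideal C) {C₁ A₁ : Type u}
    [CommRing C₁] [CommRing A₁] [IsLocalRing C₁] (M : Model c J C₁ A₁), Ex (Φ.map M.π) →
    ((Ideal.Quotient.mk (Ideal.span (Set.range (delta (Φ.map M.π))))).comp M.c₁).Flat →
    Ex Φ ∧ ((Ideal.Quotient.mk (Ideal.span (Set.range (delta Φ)))).comp c).Flat := by
  intro J
  induction J using WellFoundedLT.induction with
  | _ J ih =>
  intro C₁ A₁ _ _ _ M hE hflat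
  by_cases hJ : J = ⊥
  · subst hJ
    have hπ : Function.Bijective M.π := ⟨by
      rw [RingHom.injective_iff_ker_eq_bot, M.πker, Ideal.map_bot], M.hπ⟩
    have hp : Function.Bijective M.p := ⟨(RingHom.injective_iff_ker_eq_bot _).2 M.pker, M.hp⟩
    refine ⟨hE.of_bijective hπ, ?_⟩
    let eπ := RingEquiv.ofBijective M.π hπ
    let ep := RingEquiv.ofBijective M.p hp
    have := flat_quot_of_surj M.c₁ hflat (p := ep.symm.toRingHom) (π := eπ.symm.toRingHom) (c₁ := c)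
      ep.symm.surjective eπ.symm.surjective ((RingHom.injective_iff_ker_eq_bot _).1 ep.symm.injective)
      (J := ⊥) (by rw [Ideal.map_bot]; exact (RingHom.injective_iff_ker_eq_bot _).1 eπ.symm.injective) (fun y => by
        obtain ⟨x, rfl⟩ := M.hp y
        show c (ep.symm (ep x)) = eπ.symm (M.c₁ (M.p x))
        rw [ep.symm_apply_apply, M.comp]
        exact (eπ.symm_apply_apply _).symm)
    rwa [span_delta_map, map_map', show eπ.symm.toRingHom.comp M.π = RingHom.id A from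
      RingHom.ext fun a => eπ.symm_apply_apply a,
      show Φ.map (RingHom.id A) = Φ from Matrix.ext fun i j => rfl] at this
  obtain ⟨J', hlt, _, M', π₂, p₂, ρ₂, ρ₁, t, hker₁, hρ₁, hπ₂, σ, h1, h2, h3, h4, h5, h6, hc₂, -, hstep⟩ :=
    exists_refine hc M hJ
  haveI : IsArtinianRing C₁ := M.hp.isArtinianRing
  have hΦ : (Φ.map M'.π).map π₂ = Φ.map M.π := by rw [map_map', hπ₂]
  have hflat₁ : M.c₁.Flat := flat_of_surj c hc M.hp M.hπ M.pker M.πker M.comp
  have hE₀ : Ex ((Φ.map M'.π).map ρ₂) := by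
    rw [← hstep.map_map, hΦ]
    exact ex_closed M.c₁ hflat₁ ρ₁ hρ₁ hker₁ _ hE hflat
  rw [← hΦ] at hE hflat
  have hE' : Ex (Φ.map M'.π) := hstep.ex hE hE₀
  refine ih J' hlt M' hE' ?_
  rw [← h2]
  refine HilbObsRing.flat_of_lift σ (IA := Ideal.span (Set.range (delta ((Φ.map M'.π).map π₂))))
    (by rw [h3]; exact hflat) (by rw [h5]; exact hstep.hρ) _ (by rw [h4, span_delta_map]) fun z hz => ?_
  rw [h5, h6, span_delta_map, hstep.map_map]
  exact hstep.mem_span hE (by rw [← h1, ← h2]; exact hz)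

/-- A flat lift of a determinantal ideal is determinantal. -/
theorem exists_matrix [IsNoetherianRing (A ⧸ (IsLocalRing.maximalIdeal C).map c)] (hc : c.Flat) (I : Ideal A)
    (hI : ((Ideal.Quotient.mk I).comp c).Flat) : ∀ (J : Ideal C) {C₁ A₁ : Type u}
    [CommRing C₁] [CommRing A₁] [IsLocalRing C₁] (M : Model c J C₁ A₁) (Φ₁ : Matrix (Fin (r + 1)) (Fin r) A₁),
    Ex Φ₁ → I.map M.π = Ideal.span (Set.range (delta Φ₁)) →
    ∃ Φ : Matrix (Fin (r + 1)) (Fin r) A, Φ.map M.π = Φ₁ ∧ I = Ideal.span (Set.range (delta Φ)) := by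
  intro J
  induction J using WellFoundedLT.induction with
  | _ J ih =>
  intro C₁ A₁ _ _ _ M Φ₁ hE hI₁
  by_cases hJ : J = ⊥
  · subst hJ
    have hπ : Function.Bijective M.π := ⟨by
      rw [RingHom.injective_iff_ker_eq_bot, M.πker, Ideal.map_bot], M.hπ⟩
    choose Φ hΦ using fun i j => M.hπ (Φ₁ i j)
    have hm : (Matrix.of Φ).map M.π = Φ₁ := Matrix.ext hΦ
    refine ⟨Matrix.of Φ, hm, ?_⟩
    rw [← Ideal.comap_map_of_bijective M.π hπ (I := I), hI₁, ← hm, ← span_delta_map,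
      Ideal.comap_map_of_bijective M.π hπ]
  obtain ⟨J', hlt, _, M', π₂, p₂, ρ₂, ρ₁, t, hker₁, hρ₁, hπ₂, σ, h1, h2, h3, h4, h5, h6, hc₂, -, hstep⟩ :=
    exists_refine hc M hJ
  haveI : IsArtinianRing C₁ := M.hp.isArtinianRing
  have hflat₁ : M.c₁.Flat := flat_of_surj c hc M.hp M.hπ M.pker M.πker M.comp
  have hflatI₁ := flat_quot_of_surj c hI M.hp M.hπ M.pker M.πker M.comp
  rw [hI₁] at hflatI₁
  choose Φ₂ hΦ₂ using fun i j => hstep.hπ (Φ₁ i j)
  obtain rfl : (Matrix.of Φ₂).map π₂ = Φ₁ := Matrix.ext hΦ₂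
  have hE₀ : Ex ((Matrix.of Φ₂).map ρ₂) := by
    rw [← hstep.map_map]
    exact ex_closed M.c₁ hflat₁ ρ₁ hρ₁ hker₁ _ hE hflatI₁
  have hI₂ : (I.map M'.π).map π₂ = Ideal.span (Set.range (delta ((Matrix.of Φ₂).map π₂))) := by
    rw [Ideal.map_map, hπ₂, hI₁]
  have hflat₂ := flat_quot_of_surj c hI M'.hp M'.hπ M'.pker M'.πker M'.comp
  obtain ⟨Ψ, hΨ, hΨI⟩ := hstep.exists_matrix hI₂ (fun z hz => by
    have hm := σ.hm
    rw [h1] at hm
    have hz' := HilbRing.mem_of_smul_mem M'.c₁ hflat₂ t σ.m hm z hz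
    obtain ⟨a, ha, b, hb, rfl⟩ := Submodule.mem_sup.1 hz'
    rw [← hstep.map_map, ← span_delta_map, ← hI₂, Ideal.map_map,
      show ρ₁.comp π₂ = ρ₂ from RingHom.ext hstep.comp, map_add,
      show ρ₂ a = 0 from RingHom.mem_ker.1 (by rw [← h5, σ.hρker, h2]; exact ha), zero_add]
    exact Ideal.mem_map_of_mem _ hb) fun e he => hE₀.leftKer he
  have hΨE : Ex Ψ := hstep.ex (hΨ ▸ hE) (by rw [← hstep.map_map, hΨ, hstep.map_map]; exact hE₀)
  obtain ⟨Φ, hΦ, hΦI⟩ := ih J' hlt M' Ψ hΨE hΨI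
  refine ⟨Φ, ?_, hΦI⟩
  rw [← hπ₂, ← map_map', hΦ, hΨ]

end Groth.Agent.HBLift76
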