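import Groth.Agent.HBLift76.Alg
import Groth.Agent.S12908
import Groth.Agent.RegLoc6.Serre
import Groth.Agent.CAlgOdd.AuslanderBuchsbaum
import Groth.Agent.FlatLoc6.RegCM
import Groth.Agent.LC.ExtDim
import Groth.Agent.S7137

/-! Cohen–Macaulay quotients of codimension two of regular local rings. -/

set_option autoImplicit false
set_option linter.style.haveILetI false
universe u

open scoped Matrix
open IsLocalRing
open Groth.Agent.McCoy (delta)

namespace Groth.Agent.HBLift76

open Groth.Agent.RegLoc6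

theorem hasRegularPair_isUnit {R : Type u} [CommRing R] {a : R} {I : Ideal R} (h : McCoy.HasRegularPair I)
    (hle : I ≤ Ideal.span {a}) : IsUnit a := by
  rcases h with htop | ⟨x, hx, y, hy, hxr, hxy⟩
  · obtain ⟨b, hb⟩ := Ideal.mem_span_singleton'.1 (hle (htop ▸ Submodule.mem_top : (1 : R) ∈ I))
    exact .of_mul_eq_one b (by rw [mul_comm, hb])
  obtain ⟨x', rfl⟩ := Ideal.mem_span_singleton'.1 (hle hx)
  obtain ⟨y', rfl⟩ := Ideal.mem_span_singleton'.1 (hle hy)
  obtain ⟨c, hc⟩ := hxy x' ⟨y', by ring⟩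
  have h0 : (x' * a) * (1 - a * c) = 0 := by linear_combination a * hc
  exact .of_mul_eq_one c (sub_eq_zero.1 ((mem_nonZeroDivisors_iff_right.1 hxr) _ ((mul_comm _ _).trans h0))).symm

/-- The Hilbert–Burch theorem for Cohen–Macaulay quotients of codimension two, relative to a given system of
`n` generators: then `n = m + 1`. -/
theorem exists_matrix_of_gens {R : Type u} [CommRing R] [IsRegularLocalRing R] (I : Ideal R) (hI : I ≠ ⊤)
    [hCM : LocCoh.IsCohenMacaulayLocalRing (R ⧸ I)] (hdim : ringKrullDim (R ⧸ I) + 2 = ringKrullDim R)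
    (n : ℕ) (g : (Fin n → R) →ₗ[R] I) (hg : Function.Surjective g) :
    ∃ (m : ℕ) (Ψ : Matrix (Fin (m + 1)) (Fin m) R),
      n = m + 1 ∧ Ideal.span (Set.range (delta Ψ)) = I ∧ Ex Ψ := by
  classical
  haveI : LocCoh.IsGorensteinLocalRing R := LC.gorenstein_of_isRegularLocalRing
  haveI hR : LocCoh.IsCohenMacaulayLocalRing R := LC.isCohenMacaulayLocalRing_of_gorenstein
  haveI : Nontrivial (R ⧸ I) := Ideal.Quotient.nontrivial_iff.2 hI
  have hRM : LocCoh.IsCohenMacaulayModule R R := hR.supportDim_eq_depth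
  obtain ⟨D, hD⟩ := LC.exists_supportDim_eq_nat (R := R) (R ⧸ I)
  obtain ⟨T, hT⟩ := LC.exists_supportDim_eq_nat (R := R) R
  have hDdim : ringKrullDim (R ⧸ I) = (D : WithBot ℕ∞) := by
    rw [← hD, ← Module.supportDim_quotient_eq_ringKrullDim]
  have hTdim : ringKrullDim R = (T : WithBot ℕ∞) := by rw [← hT, Module.supportDim_self_eq_ringKrullDim]
  have hTD : D + 2 = T := by
    rw [hDdim, hTdim] at hdim
    exact_mod_cast hdim
  -- the grade of `I`
  have hid : 2 ≤ LocCoh.idealDepth I R := by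
    have h1 := LC.supportDim_eq_add_idealDepth (M := R) (hM := hRM) hI
    rw [Module.supportDim_eq_of_equiv (M := R ⧸ (I • (⊤ : Submodule R R))) (N := R ⧸ I)
      (Submodule.quotEquivOfEq _ _ (by rw [smul_eq_mul, Ideal.mul_top])), hT, hD] at h1
    obtain ⟨a, ha⟩ : ∃ a : ℕ∞, LocCoh.idealDepth I R = a := ⟨_, rfl⟩
    rw [ha] at h1 ⊢
    induction a with
    | top => exact le_top
    | coe a =>
      have : T = D + a := by exact_mod_cast h1
      exact_mod_cast (by omega : 2 ≤ a)
  -- the projective dimension of `R ⧸ I`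
  have hdepR : LocCoh.depth R R = T := by
    have := hR.supportDim_eq_depth
    rw [hT] at this
    exact_mod_cast this.symm
  have hdepM : LocCoh.depth R (R ⧸ I) = D := by
    rw [S7137.depth_eq_of_surjective (R := R) (S := R ⧸ I) Ideal.Quotient.mk_surjective]
    have := hCM.supportDim_eq_depth
    rw [Module.supportDim_self_eq_ringKrullDim, hDdim] at this
    exact_mod_cast this.symm
  have hex : ∃ e, PdLE R e (R ⧸ I) := ⟨_, pdLE_of_isRegularLocalRing R (R ⧸ I)⟩
  have he := CAlgOdd.AB.depth_add_eq (Nat.find hex) (R ⧸ I) (Nat.find_spec hex) (fun e' he' => Nat.find_min hex he')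
  rw [hdepM, hdepR, ← hTD] at he
  have he2 : Nat.find hex = 2 := by
    have : D + Nat.find hex = D + 2 := by exact_mod_cast he
    omega
  have hpd : PdLE R 2 (R ⧸ I) := he2 ▸ Nat.find_spec hex
  -- a resolution
  have hI1 : PdLE R 1 I := by
    have hk : LinearMap.ker I.mkQ = I := Submodule.ker_mkQ I
    exact pdLE_of_equiv (LinearEquiv.ofEq _ _ hk) ((pdLE_succ_iff I.mkQ (Submodule.mkQ_surjective I)).1 hpd)
  haveI : Module.Projective R (LinearMap.ker g) := pdLE_zero_iff.1 ((pdLE_succ_iff g hg).1 hI1)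
  haveI : Module.Free R (LinearMap.ker g) := Module.free_of_flat_of_isLocalRing
  obtain ⟨m, ⟨b⟩⟩ : ∃ m, Nonempty (Module.Basis (Fin m) R (LinearMap.ker g)) := ⟨_, ⟨Module.finBasis R _⟩⟩
  let L : (Fin m → R) →ₗ[R] (Fin n → R) :=
    (LinearMap.ker g).subtype ∘ₗ b.equivFun.symm.toLinearMap
  let π : (Fin n → R) →ₗ[R] R := I.subtype ∘ₗ g
  have hΨ : (LinearMap.toMatrix' L).mulVecLin = L := Matrix.toLin'_toMatrix' L
  have hLr : LinearMap.range L = LinearMap.ker g := by
    rw [LinearMap.range_comp, LinearEquiv.range, Submodule.map_top, Submodule.range_subtype]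
  have hπr : LinearMap.range π = I := by
    rw [LinearMap.range_comp, LinearMap.range_eq_top.2 hg, Submodule.map_top, Submodule.range_subtype]
  have hπk : LinearMap.ker π = LinearMap.ker g := by
    rw [LinearMap.ker_comp, Submodule.ker_subtype]; rfl
  have hIne : I ≠ ⊥ := fun h0 => by
    subst h0
    rw [ringKrullDim_eq_of_ringEquiv (RingEquiv.quotientBot R), hTdim] at hDdim
    have : T = D := by exact_mod_cast hDdim
    omega
  have hinj : LinearMap.ker (LinearMap.toMatrix' L).mulVecLin = ⊥ := by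
    rw [hΨ, LinearMap.ker_eq_bot]
    exact Subtype.val_injective.comp b.equivFun.symm.injective
  obtain ⟨hn, ⟨a, ha, hIa⟩, hdep⟩ := S12907.result _ _ (LinearMap.toMatrix' L) π hinj
    (by rw [hπk, hΨ, hLr]) (by rw [hπr]; exact hIne)
  subst hn
  refine ⟨_, LinearMap.toMatrix' L, rfl, ?_, ?_⟩
  · rw [hπr, McCoy.minorIdeal_eq_span_delta] at hIa
    have hu : IsUnit a := hasRegularPair_isUnit (McCoy.hasRegularPair_of_idealDepth hid)
      (hIa.le.trans Ideal.mul_le_left)
    rw [hIa, Ideal.span_singleton_eq_top.2 hu, Ideal.top_mul]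
  · obtain ⟨h1, h2, -⟩ := S12908.result _ (LinearMap.toMatrix' L) hdep 1 (one_mem _)
    refine (ex_iff _).2 ⟨LinearMap.ker_eq_bot.1 h1, ?_⟩
    rw [← h2]
    congr 1
    exact congrArg _ (funext fun i => one_mul _)

/-- The Hilbert–Burch theorem for Cohen–Macaulay quotients of codimension two. -/
theorem exists_matrix_local {R : Type u} [CommRing R] [IsRegularLocalRing R] (I : Ideal R) (hI : I ≠ ⊤)
    [hCM : LocCoh.IsCohenMacaulayLocalRing (R ⧸ I)] (hdim : ringKrullDim (R ⧸ I) + 2 = ringKrullDim R) :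
    ∃ (m : ℕ) (Ψ : Matrix (Fin (m + 1)) (Fin m) R), Ideal.span (Set.range (delta Ψ)) = I ∧ Ex Ψ := by
  obtain ⟨n, g, hg⟩ := Module.Finite.exists_fin' R I
  obtain ⟨m, Ψ, -, h⟩ := exists_matrix_of_gens I hI hdim n g hg
  exact ⟨m, Ψ, h⟩

end Groth.Agent.HBLift76
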