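import Groth.Agent.HBLift76.Alg
import Groth.Agent.ArtFunLib.HilbObsRing
import Groth.Agent.CplFib6.Quot
import Mathlib.RingTheory.Finiteness.Nakayama

/-! Determinantal ideals lift over Artinian local bases. -/

set_option autoImplicit false
set_option linter.style.haveILetI false
universe u

open scoped Matrix
open Groth.Agent.McCoy (delta)
open Groth.Agent.ArtFunLib

namespace Groth.Agent.HBLift76

variable {r : ℕ}

theorem exists_lift {R S : Type u} [CommRing R] [CommRing S] {π : R →+* S} (h : Function.Surjective π) {q : ℕ}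
    (v : Fin q → S) : ∃ w : Fin q → R, ∀ i, π (w i) = v i :=
  ⟨fun i => (h (v i)).choose, fun i => (h (v i)).choose_spec⟩

theorem exists_of_mem_mul_span {R : Type u} [CommRing R] {q : ℕ} (M : Ideal R) (d : Fin q → R) {z : R}
    (hz : z ∈ M * Ideal.span (Set.range d)) : ∃ w : Fin q → R, (∀ i, w i ∈ M) ∧ ∑ i, d i * w i = z := by
  refine Submodule.mul_induction_on hz (fun a ha b hb => ?_) fun a b ha hb => ?_
  · obtain ⟨v, rfl⟩ := Ideal.mem_span_range_iff_exists_fun.1 hb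
    exact ⟨fun i => a * v i, fun i => M.mul_mem_right _ ha, by
      rw [Finset.mul_sum]; exact Finset.sum_congr rfl fun i _ => by ring⟩
  · obtain ⟨v, hv, rfl⟩ := ha
    obtain ⟨w, hw, rfl⟩ := hb
    exact ⟨fun i => v i + w i, fun i => add_mem (hv i) (hw i), by
      rw [← Finset.sum_add_distrib]; exact Finset.sum_congr rfl fun i _ => mul_add _ _ _⟩

theorem mem_span_iff {R : Type u} [CommRing R] (Φ : Matrix (Fin (r + 1)) (Fin r) R) {z : R} :
    z ∈ Ideal.span (Set.range (delta Φ)) ↔ ∃ w : Fin (r + 1) → R, ∑ i, delta Φ i * w i = z :=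
  Ideal.mem_span_range_iff_exists_fun.trans ⟨fun ⟨w, hw⟩ => ⟨w, (Finset.sum_congr rfl fun i _ => mul_comm _ _).trans hw⟩,
    fun ⟨w, hw⟩ => ⟨w, (Finset.sum_congr rfl fun i _ => mul_comm _ _).trans hw⟩⟩

theorem map_dot {R S : Type u} [CommRing R] [CommRing S] (π : R →+* S) (Φ : Matrix (Fin (r + 1)) (Fin r) R)
    (w : Fin (r + 1) → R) : π (∑ i, delta Φ i * w i) = ∑ i, delta (Φ.map π) i * π (w i) := by
  rw [map_sum]
  exact Finset.sum_congr rfl fun i _ => by rw [map_mul, delta_map]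

/-- One step of a square zero lift. -/
structure Step {R R' R₀ : Type u} [CommRing R] [CommRing R'] [CommRing R₀] (π : R →+* R') (ρ : R →+* R₀)
    (ρ' : R' →+* R₀) (t : R) : Prop where
  hπ : Function.Surjective π
  hρ : Function.Surjective ρ
  comp : ∀ a, ρ' (π a) = ρ a
  ker : RingHom.ker π = Ideal.span {t}
  zero : ∀ z, ρ z = 0 ↔ t * z = 0

namespace Step

variable {R R' R₀ : Type u} [CommRing R] [CommRing R'] [CommRing R₀] {π : R →+* R'} {ρ : R →+* R₀}
    {ρ' : R' →+* R₀} {t : R} (σ : Step π ρ ρ' t)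

include σ

theorem pi_t : π t = 0 := RingHom.mem_ker.1 (σ.ker.ge (Ideal.mem_span_singleton_self t))

theorem sq : t * t = 0 := (σ.zero t).1 (by rw [← σ.comp, σ.pi_t, map_zero])

theorem exists_of_pi {z : R} (h : π z = 0) : ∃ w, z = t * w := Ideal.mem_span_singleton.1 (σ.ker.le h)

theorem mul_congr {a b : R} (h : ρ a = ρ b) : t * a = t * b := by
  rw [← sub_eq_zero, ← mul_sub]; exact (σ.zero _).1 (by rw [map_sub, h, sub_self])

theorem map_map (Φ : Matrix (Fin (r + 1)) (Fin r) R) : (Φ.map π).map ρ' = Φ.map ρ := by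
  ext i j; exact σ.comp _

variable {Φ : Matrix (Fin (r + 1)) (Fin r) R} (h : Ex (Φ.map π))
include h

/-- A relation of the minors modulo `t`. -/
theorem decompose (a : Fin (r + 1) → R) (z : R) (ha : ∑ i, delta Φ i * a i = t * z) :
    ∃ (v : Fin r → R) (w : Fin (r + 1) → R), (∀ i, a i = (Φ *ᵥ v) i + t * w i) ∧ t * ∑ i, delta Φ i * w i = t * z := by
  obtain ⟨v', hv'⟩ := h.ker (fun i => π (a i)) (by rw [← map_dot, ha, map_mul, σ.pi_t, zero_mul])
  obtain ⟨v, hv⟩ := exists_lift σ.hπ v'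
  have h1 : ∀ i, ∃ w, a i - (Φ *ᵥ v) i = t * w := fun i => σ.exists_of_pi (by
    rw [map_sub, ← congrFun (McCoy.map_mulVec_eq π Φ v) i, show (fun j => π (v j)) = v' from funext hv, hv',
      sub_self])
  choose w hw using h1
  refine ⟨v, w, fun i => by rw [← hw i, add_sub_cancel], ?_⟩
  rw [← ha, Finset.mul_sum, ← zero_add (∑ i, t * _), ← McCoy.sum_delta_mulVec Φ v, ← Finset.sum_add_distrib]
  refine Finset.sum_congr rfl fun i _ => ?_
  rw [mul_left_comm, ← hw i]
  ring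

variable (h₀ : Ex (Φ.map ρ))
include h₀

theorem ex : Ex Φ := by
  refine ⟨(injective_iff_map_eq_zero _).2 fun v hv => ?_, fun a ha => ?_⟩
  · rw [Matrix.mulVecLin_apply] at hv
    have h1 : (fun i => π (v i)) = 0 := h.inj (by
      rw [map_zero, Matrix.mulVecLin_apply, McCoy.map_mulVec_eq, hv]
      exact funext fun i => map_zero π)
    choose w hw using fun i => σ.exists_of_pi (congrFun h1 i)
    have h2 : t • (Φ *ᵥ w) = 0 := by
      rw [← Matrix.mulVec_smul, show t • w = v from funext fun i => (hw i).symm, hv]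
    have h3 : (fun i => ρ (w i)) = 0 := h₀.inj (by
      rw [map_zero, Matrix.mulVecLin_apply, McCoy.map_mulVec_eq]
      exact funext fun i => (σ.zero _).2 (congrFun h2 i))
    funext i
    rw [hw i, Pi.zero_apply]
    exact (σ.zero _).1 (congrFun h3 i)
  · obtain ⟨v, w, hw, hz⟩ := σ.decompose h a 0 (by rw [ha, mul_zero])
    obtain ⟨u', hu'⟩ := h₀.ker (fun i => ρ (w i)) (by rw [← map_dot]; exact (σ.zero _).2 (hz.trans (mul_zero t)))
    obtain ⟨u, hu⟩ := exists_lift σ.hρ u'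
    refine ⟨v + t • u, funext fun i => ?_⟩
    rw [Matrix.mulVec_add, Matrix.mulVec_smul, Pi.add_apply, Pi.smul_apply, smul_eq_mul, hw i]
    congr 1
    refine σ.mul_congr ?_
    rw [← congrFun (McCoy.map_mulVec_eq ρ Φ u) i, show (fun j => ρ (u j)) = u' from funext hu, hu']

omit h₀ in
theorem mem_span {z : R} (hz : t * z ∈ Ideal.span (Set.range (delta Φ))) :
    ρ z ∈ Ideal.span (Set.range (delta (Φ.map ρ))) := by
  obtain ⟨a, ha⟩ := (mem_span_iff Φ).1 hz
  obtain ⟨v, w, -, hw⟩ := σ.decompose h a z ha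
  refine (mem_span_iff _).2 ⟨fun i => ρ (w i), ?_⟩
  rw [← map_dot, ← sub_eq_zero, ← map_sub]
  exact (σ.zero _).2 (by rw [mul_sub, hw, sub_self])

omit h h₀ in
theorem exists_matrix {I : Ideal R} (hI : I.map π = Ideal.span (Set.range (delta (Φ.map π))))
    (hflat : ∀ z, t * z ∈ I → ρ z ∈ Ideal.span (Set.range (delta (Φ.map ρ))))
    (hLK : ∀ e : Fin (r + 1) → R₀, e ᵥ* Φ.map ρ = 0 → ∃ a, ∀ i, e i = a * delta (Φ.map ρ) i) :
    ∃ Ψ : Matrix (Fin (r + 1)) (Fin r) R, Ψ.map π = Φ.map π ∧ I = Ideal.span (Set.range (delta Ψ)) := by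
  have hex : ∀ i, ∃ g, g ∈ I ∧ π g = π (delta Φ i) := fun i =>
    (Ideal.mem_map_iff_of_surjective _ σ.hπ).1 (hI.ge (Ideal.subset_span ⟨i, delta_map π Φ i⟩))
  choose g hg hgπ using hex
  choose e he using fun i => σ.exists_of_pi (show π (g i - delta Φ i) = 0 by rw [map_sub, hgπ, sub_self])
  have hgΦ : ∀ j, ∑ i, g i * Φ i j = t * ∑ i, e i * Φ i j := fun j => by
    have h0 : ∑ i, delta Φ i * Φ i j = 0 := S12906.result r Φ j
    rw [Finset.mul_sum, ← add_zero (∑ i, t * _), ← h0, ← Finset.sum_add_distrib]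
    exact Finset.sum_congr rfl fun i _ => by linear_combination Φ i j * he i
  have hC : ∀ j, ∃ C : Fin (r + 1) → R, t * ∑ i, e i * Φ i j = t * ∑ i, delta Φ i * C i := fun j => by
    obtain ⟨c, hc⟩ := (mem_span_iff _).1 (hflat (∑ i, e i * Φ i j) (by
      rw [← hgΦ]; exact sum_mem fun i _ => I.mul_mem_right _ (hg i)))
    obtain ⟨C, hC⟩ := exists_lift σ.hρ c
    exact ⟨C, σ.mul_congr (by rw [map_dot, ← hc]; simp only [hC])⟩
  choose C hC using hC
  let Ψ : Matrix (Fin (r + 1)) (Fin r) R := Matrix.of fun i j => Φ i j - t * C j i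
  have hΨπ : Ψ.map π = Φ.map π := by
    ext i j
    simp only [Ψ, Matrix.map_apply, Matrix.of_apply, map_sub, map_mul, σ.pi_t, zero_mul, sub_zero]
  have hgt : ∀ i, t * g i = t * delta Φ i := fun i => by
    linear_combination t * he i + e i * σ.sq
  have hgΨ : ∀ j, ∑ i, g i * Ψ i j = 0 := fun j => by
    simp only [Ψ, Matrix.of_apply, mul_sub, Finset.sum_sub_distrib]
    rw [hgΦ, hC j, sub_eq_zero, Finset.mul_sum]
    exact Finset.sum_congr rfl fun i _ => by linear_combination -(C j i) * hgt i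
  choose h hh using fun i => σ.exists_of_pi (show π (g i - delta Ψ i) = 0 by
    rw [map_sub, hgπ, ← delta_map π Ψ, ← delta_map π Φ, hΨπ, sub_self])
  have hΨρ : Ψ.map ρ = Φ.map ρ := by rw [← σ.map_map, hΨπ, σ.map_map]
  obtain ⟨a₀, ha₀⟩ := hLK (fun i => ρ (h i)) (funext fun j => by
    rw [← hΨρ, Pi.zero_apply]
    simp only [Matrix.vecMul, dotProduct, Matrix.map_apply, ← map_mul, ← map_sum]
    refine (σ.zero _).2 ?_
    have h0 : ∑ i, delta Ψ i * Ψ i j = 0 := S12906.result r Ψ j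
    rw [← hgΨ j, ← sub_zero (∑ i, g i * Ψ i j), ← h0, ← Finset.sum_sub_distrib, Finset.mul_sum]
    exact Finset.sum_congr rfl fun i _ => by
      linear_combination -(Ψ i j) * hh i)
  obtain ⟨a, rfl⟩ := σ.hρ a₀
  have hga : ∀ i, g i = (1 + t * a) * delta Ψ i := fun i => by
    have : t * h i = t * (a * delta Ψ i) := σ.mul_congr (by rw [map_mul, ← delta_map ρ Ψ, hΨρ]; exact ha₀ i)
    linear_combination hh i + this
  have hle : Ideal.span (Set.range (delta Ψ)) ≤ I := Ideal.span_le.2 (Set.range_subset_iff.2 fun i => by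
    rw [show delta Ψ i = (1 - t * a) * g i by rw [hga]; linear_combination (a * a * delta Ψ i) * σ.sq]
    exact I.mul_mem_left _ (hg i))
  refine ⟨Ψ, hΨπ, le_antisymm (fun x hx => ?_) hle⟩
  obtain ⟨v, hv⟩ := (mem_span_iff _).1 (hI.le (Ideal.mem_map_of_mem π hx))
  obtain ⟨w, hw⟩ := exists_lift σ.hπ v
  obtain ⟨z, hz⟩ := σ.exists_of_pi (show π (x - ∑ i, delta Ψ i * w i) = 0 by
    rw [map_sub, map_dot, hΨπ, ← hv, sub_eq_zero]; simp only [hw])
  obtain ⟨u, hu⟩ := (mem_span_iff _).1 (hflat z (hz ▸ I.sub_mem hx (hle ((mem_span_iff Ψ).2 ⟨w, rfl⟩))))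
  obtain ⟨u', hu'⟩ := exists_lift σ.hρ u
  refine (mem_span_iff _).2 ⟨fun i => w i + t * u' i, ?_⟩
  have h2 : t * z = t * ∑ i, delta Ψ i * u' i := σ.mul_congr (by rw [map_dot, hΨρ, ← hu]; simp only [hu'])
  simp only [mul_add, Finset.sum_add_distrib, mul_left_comm _ t, ← Finset.mul_sum]
  linear_combination -hz - h2

end Step

section flat

variable {C A : Type u} [CommRing C] [CommRing A] (c : C →+* A)

theorem flat_of_surj (hc : c.Flat) {C₁ A₁ : Type u} [CommRing C₁] [CommRing A₁] {p : C →+* C₁} {π : A →+* A₁}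
    {c₁ : C₁ →+* A₁} (hp : Function.Surjective p) (hπ : Function.Surjective π) {J : Ideal C}
    (hJ : RingHom.ker p = J) (hπJ : RingHom.ker π = J.map c) (hcomp : ∀ x, c₁ (p x) = π (c x)) : c₁.Flat := by
  letI : Algebra C A := c.toAlgebra
  haveI : Module.Flat C A := hc
  let ep : C ⧸ J ≃+* C₁ := (Ideal.quotEquivOfEq hJ.symm).trans (RingHom.quotientKerEquivOfSurjective hp)
  let eπ : A ⧸ J.map (algebraMap C A) ≃+* A₁ :=
    (Ideal.quotEquivOfEq (show J.map (algebraMap C A) = RingHom.ker π from hπJ.symm)).trans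
      (RingHom.quotientKerEquivOfSurjective hπ)
  have h : (algebraMap (C ⧸ J) (A ⧸ J.map (algebraMap C A))).Flat :=
    RingHom.flat_algebraMap_iff.2 (CplFib6.flat_quot J)
  have he : c₁ = eπ.toRingHom.comp ((algebraMap (C ⧸ J) (A ⧸ J.map (algebraMap C A))).comp ep.symm.toRingHom) :=
    RingHom.ext fun y => by
      obtain ⟨x, rfl⟩ := hp y
      have : ep.symm (p x) = Ideal.Quotient.mk J x := ep.symm_apply_eq.2 rfl
      show c₁ (p x) = eπ (algebraMap _ _ (ep.symm (p x)))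
      rw [this, hcomp]
      rfl
  rw [he]
  exact (((RingHom.Flat.of_bijective ep.symm.bijective).comp h).comp (RingHom.Flat.of_bijective eπ.bijective))

theorem flat_quot_of_surj {I : Ideal A} (hI : ((Ideal.Quotient.mk I).comp c).Flat) {C₁ A₁ : Type u} [CommRing C₁]
    [CommRing A₁] {p : C →+* C₁} {π : A →+* A₁} {c₁ : C₁ →+* A₁} (hp : Function.Surjective p)
    (hπ : Function.Surjective π) {J : Ideal C}
    (hJ : RingHom.ker p = J) (hπJ : RingHom.ker π = J.map c) (hcomp : ∀ x, c₁ (p x) = π (c x)) :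
    ((Ideal.Quotient.mk (I.map π)).comp c₁).Flat := by
  refine flat_of_surj ((Ideal.Quotient.mk I).comp c) hI
    (π := Ideal.quotientMap (I.map π) π Ideal.le_comap_map) hp
    (Ideal.quotientMap_surjective hπ) hJ ?_ (fun x => by
      show Ideal.Quotient.mk _ (c₁ (p x)) = Ideal.Quotient.mk _ (π (c x))
      rw [hcomp])
  rw [← Ideal.map_map, ← hπJ]
  refine le_antisymm (fun y hy => ?_) (Ideal.map_le_iff_le_comap.2 fun a ha => ?_)
  · obtain ⟨a, rfl⟩ := Ideal.Quotient.mk_surjective y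
    obtain ⟨b, hb, hbe⟩ := (Ideal.mem_map_iff_of_surjective _ hπ).1 (Ideal.Quotient.eq_zero_iff_mem.1 hy)
    have hker : a - b ∈ RingHom.ker π := by rw [RingHom.mem_ker, map_sub, hbe, sub_self]
    have := Ideal.mem_map_of_mem (Ideal.Quotient.mk I) hker
    rwa [map_sub, Ideal.Quotient.eq_zero_iff_mem.2 hb, sub_zero] at this
  · show Ideal.quotientMap (I.map π) π _ (Ideal.Quotient.mk I a) = 0
    rw [Ideal.quotientMap_mk, RingHom.mem_ker.1 ha, map_zero]

end flat

/-- The Hilbert–Burch complex of a flat quotient stays exact on the closed fibre. -/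
theorem ex_closed {C A A₀ : Type u} [CommRing C] [IsLocalRing C] [IsArtinianRing C] [CommRing A] [CommRing A₀]
    (c : C →+* A) (hc : c.Flat) (ρ : A →+* A₀) (hρ : Function.Surjective ρ)
    (hρker : RingHom.ker ρ = (IsLocalRing.maximalIdeal C).map c) (Φ : Matrix (Fin (r + 1)) (Fin r) A) (hE : Ex Φ)
    (hflat : ((Ideal.Quotient.mk (Ideal.span (Set.range (delta Φ)))).comp c).Flat) : Ex (Φ.map ρ) := by
  classical
  letI : Algebra C A := c.toAlgebra
  haveI : Module.Flat C A := hc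
  let I := Ideal.span (Set.range (delta Φ))
  let 𝔪 := IsLocalRing.maximalIdeal C
  have hnil : IsNilpotent 𝔪 := (isArtinianRing_iff_isNilpotent_maximalIdeal C).1 inferInstance
  haveI : Module.Flat C (A ⧸ I) := hflat
  haveI : Module.Free C (A ⧸ I) := ArtFlat.free_of_flat hnil
  haveI : Module.Free C A := ArtFlat.free_of_flat hnil
  haveI : Module.Projective C (I.restrictScalars C) := by
    obtain ⟨σ, hσ⟩ := Module.projective_lifting_property ((Ideal.Quotient.mkₐ C I).toLinearMap) LinearMap.id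
      Ideal.Quotient.mk_surjective
    let π₀ : A →ₗ[C] A := LinearMap.id - σ ∘ₗ (Ideal.Quotient.mkₐ C I).toLinearMap
    have hm : ∀ a : A, π₀ a ∈ I.restrictScalars C :=
      fun a => Ideal.Quotient.eq.1 (LinearMap.congr_fun hσ (Ideal.Quotient.mk I a)).symm
    refine Module.Projective.of_split (P := (I.restrictScalars C)) (M := A) (I.restrictScalars C).subtype
      (π₀.codRestrict _ hm)
      (LinearMap.ext fun a => Subtype.ext ?_)
    show (a : A) - σ (Ideal.Quotient.mk I (a : A)) = a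
    rw [Ideal.Quotient.eq_zero_iff_mem.2 a.2, map_zero, sub_zero]
  let δ : (Fin (r + 1) → A) →ₗ[C] (I.restrictScalars C) :=
    ((Fintype.linearCombination A (delta Φ)).restrictScalars C).codRestrict _ fun v => by
      refine (mem_span_iff Φ).2 ⟨v, ?_⟩
      rw [LinearMap.restrictScalars_apply, Fintype.linearCombination_apply]
      exact Finset.sum_congr rfl fun i _ => mul_comm _ _
  have hδ : ∀ v, (δ v : A) = ∑ i, delta Φ i * v i := fun v => by
    show Fintype.linearCombination A (delta Φ) v = _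
    rw [Fintype.linearCombination_apply]
    exact Finset.sum_congr rfl fun i _ => mul_comm _ _
  obtain ⟨τ, hτ⟩ := Module.projective_lifting_property δ LinearMap.id fun a => by
    obtain ⟨v, hv⟩ := (mem_span_iff Φ).1 a.2
    exact ⟨v, Subtype.ext ((hδ v).trans hv)⟩
  let L : (Fin r → A) →ₗ[C] (Fin (r + 1) → A) := Φ.mulVecLin.restrictScalars C
  have hL : Function.Injective L := hE.inj
  let e := LinearEquiv.ofInjective L hL
  let P₁ : (Fin (r + 1) → A) →ₗ[C] (Fin (r + 1) → A) := LinearMap.id - τ ∘ₗ δ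
  have hmem : ∀ x, P₁ x ∈ LinearMap.range L := fun x => by
    obtain ⟨w, hw⟩ := hE.ker (P₁ x) (by
      rw [← hδ, ← Submodule.coe_zero (p := I.restrictScalars C)]
      congr 1
      rw [LinearMap.sub_apply, map_sub, LinearMap.id_apply, LinearMap.comp_apply,
        show δ (τ (δ x)) = δ x from LinearMap.congr_fun hτ (δ x), sub_self])
    exact ⟨w, hw⟩
  let s : (Fin (r + 1) → A) →ₗ[C] (Fin r → A) :=
    e.symm.toLinearMap ∘ₗ (P₁.codRestrict _ hmem)
  have hs : ∀ v, s (Φ *ᵥ v) = v := fun v => by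
    have h0 : δ (Φ *ᵥ v) = 0 := Subtype.ext ((hδ _).trans (McCoy.sum_delta_mulVec Φ v))
    refine e.symm_apply_eq.2 (Subtype.ext ?_)
    show Φ *ᵥ v - τ (δ (Φ *ᵥ v)) = Φ *ᵥ v
    rw [h0, map_zero, sub_zero]
  have hlin : ∀ {q : ℕ} (g : (Fin q → A) →ₗ[C] A) (x : Fin q → A), (∀ i, ρ (x i) = 0) → ρ (g x) = 0 := by
    intro q g x hx
    rw [← Finset.univ_sum_single x, map_sum, map_sum]
    refine Finset.sum_eq_zero fun i _ => ?_
    have h1 : x i ∈ 𝔪 • (⊤ : Submodule C A) := by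
      rw [Ideal.smul_top_eq_map, Submodule.restrictScalars_mem]
      exact hρker.le (hx i)
    refine RingHom.mem_ker.1 (hρker.ge ?_)
    have h2 := Submodule.mem_map_of_mem (f := g ∘ₗ LinearMap.single C (fun _ : Fin q => A) i) h1
    rw [Submodule.map_smul''] at h2
    have h3 := Submodule.smul_mono le_rfl le_top h2
    rw [Ideal.smul_top_eq_map, Submodule.restrictScalars_mem] at h3
    exact h3
  refine ⟨(injective_iff_map_eq_zero _).2 fun v₀ hv₀ => ?_, fun v₀ hv₀ => ?_⟩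
  · obtain ⟨v, hv⟩ := exists_lift hρ v₀
    rw [Matrix.mulVecLin_apply, show v₀ = fun i => ρ (v i) from funext fun i => (hv i).symm,
      McCoy.map_mulVec_eq] at hv₀
    funext j
    rw [← hv j, ← hs v]
    exact hlin (LinearMap.proj j ∘ₗ s) _ (congrFun hv₀)
  · obtain ⟨v, hv⟩ := exists_lift hρ v₀
    have hz : ρ (∑ i, delta Φ i * v i) = 0 := by rw [map_dot, ← hv₀]; simp only [hv]
    obtain ⟨w, hw, hwe⟩ := exists_of_mem_mul_span _ (delta Φ)
      (HilbRing.inf_map_le c hflat 𝔪 ⟨(mem_span_iff Φ).2 ⟨v, rfl⟩, hρker.le hz⟩)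
    obtain ⟨u, hu⟩ := hE.ker (fun i => v i - w i) (by
      simp only [mul_sub, Finset.sum_sub_distrib, hwe, sub_self])
    refine ⟨fun j => ρ (u j), ?_⟩
    rw [McCoy.map_mulVec_eq, hu]
    funext i
    rw [map_sub, RingHom.mem_ker.1 (hρker.ge (hw i)), sub_zero, hv]

theorem exists_step_ideal {C : Type u} [CommRing C] [IsLocalRing C] [IsArtinianRing C] {J : Ideal C} (hJ : J ≠ ⊥) :
    ∃ J' : Ideal C, ∃ t : C, J' < J ∧ t ∈ J ∧ t ∉ J' ∧ J' ⊔ Ideal.span {t} = J ∧
      ∀ a ∈ IsLocalRing.maximalIdeal C, a * t ∈ J' := by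
  obtain ⟨J', hlt, hmax⟩ := set_has_maximal_iff_noetherian.2 (inferInstance : IsNoetherian C C)
    {K : Ideal C | K < J} ⟨⊥, bot_lt_iff_ne_bot.2 hJ⟩
  obtain ⟨t, htJ, htJ'⟩ := SetLike.exists_of_lt (show J' < J from hlt)
  have key : ∀ s ∈ J, s ∉ J' → J' ⊔ Ideal.span {s} = J := fun s hs hs' =>
    ((sup_le hlt.le ((Ideal.span_singleton_le_iff_mem _).2 hs)).eq_or_lt).resolve_right fun h =>
      hmax _ h (lt_of_le_of_ne le_sup_left fun e =>
        hs' (e.symm ▸ Ideal.mem_sup_right (Ideal.mem_span_singleton_self s)))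
  refine ⟨J', t, hlt, htJ, htJ', key t htJ htJ', fun a ha => by_contra fun hat => htJ' ?_⟩
  obtain ⟨j, hj, s, hs, e⟩ := Submodule.mem_sup.1 ((key _ (J.mul_mem_left a htJ) hat).ge htJ)
  obtain ⟨b, rfl⟩ := Ideal.mem_span_singleton'.1 hs
  refine (Ideal.unit_mul_mem_iff_mem J' (IsLocalRing.isUnit_one_sub_self_of_mem_nonunits _
    ((IsLocalRing.maximalIdeal C).mul_mem_left b ha))).1 ?_
  rwa [show (1 - b * a) * t = j by linear_combination -e]

theorem exists_sit {C A C₁ A₁ A₀ : Type u} [CommRing C] [IsLocalRing C] [IsArtinianRing C] [CommRing C₁]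
    [IsLocalRing C₁] [CommRing A] [CommRing A₁] [CommRing A₀] (c : C →+* A) (hc : c.Flat) (c₁ : C₁ →+* A₁)
    (p : C →+* C₁) (π : A →+* A₁) (ρ : A →+* A₀) (ρ' : A₁ →+* A₀) (t : C) (hp : Function.Surjective p)
    (hker : RingHom.ker p = Ideal.span {t}) (hmt : ∀ a ∈ IsLocalRing.maximalIdeal C, a * t = 0) (ht : t ≠ 0)
    (hπ : Function.Surjective π) (hρ : Function.Surjective ρ) (hπker : RingHom.ker π = Ideal.span {c t})
    (hcomp : ∀ x, c₁ (p x) = π (c x)) (hρπ : ∀ a, ρ' (π a) = ρ a)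
    (hρker : RingHom.ker ρ = (IsLocalRing.maximalIdeal C).map c) :
    ∃ σ : HilbObsRing.Sit C C₁ A A₁ A₀, σ.t = t ∧ σ.c = c ∧ σ.cA = c₁ ∧ σ.π = π ∧ σ.ρ = ρ ∧ σ.ρA = ρ' ∧
      Step π ρ ρ' (c t) := by
  haveI : IsArtinianRing C₁ := hp.isArtinianRing
  have hm : ∀ a, t * a = 0 → a ∈ IsLocalRing.maximalIdeal C := fun a ha => by
    by_contra hna
    exact ht ((IsLocalRing.notMem_maximalIdeal.1 hna).mul_left_eq_zero.1 ha)
  have htm : t ∈ IsLocalRing.maximalIdeal C :=
    IsLocalRing.le_maximalIdeal (RingHom.ker_ne_top p) (hker.ge (Ideal.mem_span_singleton_self t))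
  have hker' : RingHom.ker ρ' = (IsLocalRing.maximalIdeal C₁).map c₁ := by
    rw [← IsLocalRing.map_maximalIdeal_of_surjective _ hp, Ideal.map_map,
      show c₁.comp p = π.comp c from RingHom.ext hcomp, ← Ideal.map_map, ← hρker,
      show ρ = ρ'.comp π from (RingHom.ext hρπ).symm, ← RingHom.comap_ker, Ideal.map_comap_of_surjective _ hπ]
  refine ⟨⟨p, IsLocalRing.maximalIdeal C, t, c, c₁, π, ρ, ρ', hp, hker, hmt, hm, htm,
    IsLocalRing.map_maximalIdeal_of_surjective _ hp, (isArtinianRing_iff_isNilpotent_maximalIdeal C₁).1 inferInstance,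
    hc, hπ, hπker, fun b => (hcomp b).symm, hρπ, hρker, hker'⟩, rfl, rfl, rfl, rfl, rfl, rfl, hπ, hρ, hρπ, hπker,
    fun z => ⟨fun hz => ?_, fun hz => ?_⟩⟩
  · have h1 : z ∈ (IsLocalRing.maximalIdeal C).map c := hρker.le hz
    have h2 : (IsLocalRing.maximalIdeal C).map c ≤ LinearMap.ker (LinearMap.mulLeft A (c t)) :=
      Ideal.map_le_iff_le_comap.2 fun b hb => by
        show c t * c b = 0
        rw [← map_mul, mul_comm, hmt b hb, map_zero]
    exact h2 h1
  · have h1 := HilbRing.mem_of_smul_mem (I := ⊥) c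
      (hc.comp (RingHom.Flat.of_bijective (RingEquiv.quotientBot A).symm.bijective)) t _ hm z (Ideal.mem_bot.2 hz)
    rw [sup_bot_eq, ← hρker] at h1
    exact h1

end Groth.Agent.HBLift76
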