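import Groth.Agent.HBLift76.Alg
import Mathlib.RingTheory.Localization.AtPrime.Basic
import Mathlib.RingTheory.Localization.Away.Basic

/-! Spreading out an exact Hilbert–Burch complex from a localization. -/

set_option autoImplicit false
set_option linter.style.haveILetI false
universe u

open scoped Matrix
open Groth.Agent.McCoy (delta)

namespace Groth.Agent.HBLift76

theorem Ex.unit_smul {R : Type u} [CommRing R] {r : ℕ} {Φ : Matrix (Fin (r + 1)) (Fin r) R} (h : Ex Φ)
    {u : R} (hu : IsUnit u) : Ex (u • Φ) ∧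
      Ideal.span (Set.range (delta (u • Φ))) = Ideal.span (Set.range (delta Φ)) := by
  obtain ⟨v, hv⟩ := hu.exists_left_inv
  have hd : ∀ i, delta (u • Φ) i = u ^ r * delta Φ i := fun i => by
    simp only [delta, Matrix.submatrix_smul, Pi.smul_apply, Matrix.det_smul, Fintype.card_fin]
    ring
  have hur := hu.pow r
  refine ⟨⟨fun a b hab => h.inj ?_, fun w hw => ?_⟩, ?_⟩
  · simp only [Matrix.mulVecLin_apply, Matrix.smul_mulVec] at hab ⊢
    exact hu.smul_left_cancel.1 hab
  · obtain ⟨z, rfl⟩ := h.ker w (hur.mul_right_eq_zero.1 (by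
      rw [Finset.mul_sum, ← hw]
      exact Finset.sum_congr rfl fun i _ => by rw [hd, mul_assoc]))
    exact ⟨v • z, by rw [Matrix.smul_mulVec, Matrix.mulVec_smul, smul_smul, mul_comm, hv, one_smul]⟩
  · refine le_antisymm (Ideal.span_le.2 ?_) (Ideal.span_le.2 ?_)
    · rintro _ ⟨i, rfl⟩
      rw [hd]
      exact Ideal.mul_mem_left _ _ (Ideal.subset_span ⟨i, rfl⟩)
    · rintro _ ⟨i, rfl⟩
      obtain ⟨w, hw⟩ := hur.exists_left_inv
      rw [show delta Φ i = w * delta (u • Φ) i by rw [hd, ← mul_assoc, hw, one_mul]]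
      exact Ideal.mul_mem_left _ _ (Ideal.subset_span ⟨i, rfl⟩)

variable {R : Type u} [CommRing R]

theorem exists_smul_le {M : Type u} [AddCommGroup M] [Module R M] (p : Ideal R) [p.IsPrime] (N P : Submodule R M)
    (hN : N.FG) (h : ∀ x ∈ N, ∃ c ∉ p, c • x ∈ P) : ∃ c ∉ p, ∀ x ∈ N, c • x ∈ P := by
  classical
  obtain ⟨s, rfl⟩ := hN
  choose c hc hc' using fun x : s => h x (Submodule.subset_span x.2)
  refine ⟨∏ x, c x, fun hp => ?_, fun x hx => ?_⟩
  · obtain ⟨x, -, hx⟩ := (Ideal.IsPrime.prod_mem_iff).1 hp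
    exact hc x hx
  · induction hx using Submodule.span_induction with
    | mem x hx =>
      rw [← Finset.prod_erase_mul _ _ (Finset.mem_univ (⟨x, hx⟩ : s)), mul_smul]
      exact P.smul_mem _ (hc' ⟨x, hx⟩)
    | zero => rw [smul_zero]; exact P.zero_mem
    | add a b _ _ ha hb => rw [smul_add]; exact P.add_mem ha hb
    | smul t a _ ha => rw [smul_comm]; exact P.smul_mem _ ha

/-- Exactness passes to a localization from approximate exactness. -/
theorem ex_of_approx {r : ℕ} (Φ : Matrix (Fin (r + 1)) (Fin r) R) (M : Submonoid R) (T : Type u) [CommRing T]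
    [Algebra R T] [IsLocalization M T] {f : R} (hf : IsUnit (algebraMap R T f))
    (h1 : ∀ v, Φ *ᵥ v = 0 → f • v = 0)
    (h2 : ∀ v : Fin (r + 1) → R, ∑ i, delta Φ i * v i = 0 → f • v ∈ LinearMap.range Φ.mulVecLin) :
    Ex (Φ.map (algebraMap R T)) := by
  have hnum : ∀ {q : ℕ} (v : Fin q → T), ∃ (m : M) (v₀ : Fin q → R),
      ∀ i, algebraMap R T (v₀ i) = algebraMap R T m * v i := fun v => by
    obtain ⟨m, hm⟩ := IsLocalization.exist_integer_multiples M Finset.univ v
    choose v₀ hv₀ using fun i => hm i (Finset.mem_univ i)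
    exact ⟨m, v₀, fun i => by rw [hv₀ i, Algebra.smul_def]⟩
  have hzero : ∀ {q : ℕ} (z : Fin q → R), (∀ i, algebraMap R T (z i) = 0) → ∃ m : M, (m : R) • z = 0 :=
    fun z hz => by
      classical
      choose c hc using fun i => (IsLocalization.map_eq_zero_iff M T _).1 (hz i)
      exact ⟨∏ i, c i, funext fun i => by
        rw [Pi.smul_apply, Pi.zero_apply, smul_eq_mul, Submonoid.coe_finset_prod,
          ← Finset.prod_erase_mul _ _ (Finset.mem_univ i), mul_assoc, hc i, mul_zero]⟩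
  have hu : ∀ m : M, IsUnit (algebraMap R T (f * m)) := fun m => by
    rw [map_mul]; exact hf.mul (IsLocalization.map_units T m)
  refine ⟨?_, fun v hv => ?_⟩
  · rw [← LinearMap.ker_eq_bot]
    refine (Submodule.eq_bot_iff _).2 fun v hv => ?_
    obtain ⟨m, v₀, hv₀⟩ := hnum v
    have e : (fun i => algebraMap R T (v₀ i)) = algebraMap R T m • v := funext hv₀
    obtain ⟨m', hm'⟩ := hzero (Φ *ᵥ v₀) fun i => by
      rw [← congrFun (McCoy.map_mulVec_eq (algebraMap R T) Φ v₀) i, e, Matrix.mulVec_smul,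
        show Φ.map (algebraMap R T) *ᵥ v = 0 from hv, smul_zero]
      rfl
    have h3 := h1 ((m' : R) • v₀) (by rw [Matrix.mulVec_smul, hm'])
    funext i
    refine ((hf.mul (IsLocalization.map_units T m')).mul (IsLocalization.map_units T m)).mul_right_eq_zero.1 ?_
    rw [mul_assoc, ← hv₀ i, ← map_mul, ← map_mul, mul_assoc,
      show f * ((m' : R) * v₀ i) = 0 from congrFun h3 i, map_zero]
  · obtain ⟨m, v₀, hv₀⟩ := hnum v
    obtain ⟨m', hm'⟩ := hzero (fun _ : Fin 1 => ∑ i, delta Φ i * v₀ i) fun _ => by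
      simp only [map_sum, map_mul, hv₀, ← delta_map]
      rw [show ∑ i, delta (Φ.map (algebraMap R T)) i * (algebraMap R T m * v i) =
        algebraMap R T m * ∑ i, delta (Φ.map (algebraMap R T)) i * v i by
          rw [Finset.mul_sum]; exact Finset.sum_congr rfl fun i _ => mul_left_comm _ _ _, hv, mul_zero]
    obtain ⟨w, hw⟩ := h2 ((m' : R) • v₀) (by
      rw [show ∑ i, delta Φ i * ((m' : R) • v₀) i = (m' : R) * ∑ i, delta Φ i * v₀ i by
        rw [Finset.mul_sum]; exact Finset.sum_congr rfl fun i _ => mul_left_comm _ _ _]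
      exact congrFun hm' 0)
    obtain ⟨u, hu'⟩ := (hu (m' * m)).exists_left_inv
    refine ⟨u • fun i => algebraMap R T (w i), ?_⟩
    rw [Matrix.mulVec_smul, McCoy.map_mulVec_eq]
    funext i
    rw [Pi.smul_apply, show (Φ *ᵥ w) i = f * ((m' : R) * v₀ i) from congrFun hw i, smul_eq_mul]
    rw [Submonoid.coe_mul, map_mul, map_mul] at hu'
    rw [map_mul, map_mul, hv₀]
    linear_combination v i * hu'

/-- Spreading out from a prime. -/
theorem exists_spread [IsNoetherianRing R] (p : Ideal R) [p.IsPrime] (S : Type u) [CommRing S] [Algebra R S]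
    [IsLocalization.AtPrime S p] (I : Ideal R) {r : ℕ} (Ψ : Matrix (Fin (r + 1)) (Fin r) S) (hΨ : Ex Ψ)
    (hI : Ideal.span (Set.range (delta Ψ)) = I.map (algebraMap R S)) :
    ∃ f ∉ p, ∀ (T : Type u) [CommRing T] [Algebra R T] [IsLocalization.Away f T],
      ∃ Φ : Matrix (Fin (r + 1)) (Fin r) T, Ex Φ ∧
        Ideal.span (Set.range (delta Φ)) = I.map (algebraMap R T) := by
  classical
  obtain ⟨s, hs⟩ := IsLocalization.exist_integer_multiples p.primeCompl Finset.univ
    (fun ij : Fin (r + 1) × Fin r => Ψ ij.1 ij.2)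
  choose φ hφ using fun i j => hs (i, j) (Finset.mem_univ _)
  let Φ₀ : Matrix (Fin (r + 1)) (Fin r) R := Matrix.of φ
  have hmap : Φ₀.map (algebraMap R S) = algebraMap R S s • Ψ := by
    ext i j
    rw [Matrix.map_apply, Matrix.smul_apply, smul_eq_mul]
    exact (hφ i j).trans (Algebra.smul_def _ _)
  obtain ⟨hE, hEI⟩ := hΨ.unit_smul (IsLocalization.map_units S s)
  rw [← hmap] at hE hEI
  have hloc : (Ideal.span (Set.range (delta Φ₀))).map (algebraMap R S) = I.map (algebraMap R S) := by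
    rw [span_delta_map, hEI, hI]
  have hle : ∀ {J K : Ideal R}, J.map (algebraMap R S) ≤ K.map (algebraMap R S) →
      ∃ c ∉ p, ∀ x ∈ J, c • x ∈ K := fun {J K} h => exists_smul_le p J K (IsNoetherian.noetherian J) fun x hx => by
    obtain ⟨⟨⟨a, ha⟩, t⟩, hat⟩ := (IsLocalization.mem_map_algebraMap_iff p.primeCompl S).1
      (h (Ideal.mem_map_of_mem _ hx))
    rw [← map_mul] at hat
    obtain ⟨c, hc⟩ := (IsLocalization.eq_iff_exists p.primeCompl S).1 hat
    exact ⟨_, (c * t).2, by
      rw [smul_eq_mul, Submonoid.coe_mul, mul_assoc, mul_comm (t : R) x, hc]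
      exact Ideal.mul_mem_left _ _ ha⟩
  obtain ⟨c₁, hc₁, hc₁'⟩ := hle hloc.le
  obtain ⟨c₂, hc₂, hc₂'⟩ := hle hloc.ge
  have hzero : ∀ {q : ℕ} (z : Fin q → R), (∀ i, algebraMap R S (z i) = 0) → ∃ c ∉ p, c • z = 0 := fun z hz => by
    choose c hc using fun i => (IsLocalization.map_eq_zero_iff p.primeCompl S _).1 (hz i)
    exact ⟨_, (∏ i, c i).2, funext fun i => by
      rw [Pi.smul_apply, Pi.zero_apply, smul_eq_mul, Submonoid.coe_finset_prod,
        ← Finset.prod_erase_mul _ _ (Finset.mem_univ i), mul_assoc, hc i, mul_zero]⟩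
  obtain ⟨c₃, hc₃, hc₃'⟩ := exists_smul_le p (LinearMap.ker Φ₀.mulVecLin) ⊥ (IsNoetherian.noetherian _)
    fun x hx => by
      have h0 : (fun i => algebraMap R S (x i)) = 0 := hE.inj (by
        rw [map_zero, Matrix.mulVecLin_apply, McCoy.map_mulVec_eq, show Φ₀ *ᵥ x = 0 from hx]
        exact funext fun i => map_zero _)
      obtain ⟨c, hc, hcx⟩ := hzero x fun i => congrFun h0 i
      exact ⟨c, hc, hcx⟩
  obtain ⟨c₄, hc₄, hc₄'⟩ := exists_smul_le p (LinearMap.ker (Fintype.linearCombination R (delta Φ₀)))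
    (LinearMap.range Φ₀.mulVecLin) (IsNoetherian.noetherian _) fun x hx => by
      have hx' : ∑ i, delta Φ₀ i * x i = 0 := by
        rw [LinearMap.mem_ker, Fintype.linearCombination_apply] at hx
        exact (Finset.sum_congr rfl fun i _ => mul_comm _ _).trans hx
      obtain ⟨w, hw⟩ := hE.ker (fun i => algebraMap R S (x i)) (by
        rw [← map_zero (algebraMap R S), ← hx', map_sum]
        exact Finset.sum_congr rfl fun i _ => by rw [map_mul, delta_map])
      obtain ⟨t, ht⟩ := IsLocalization.exist_integer_multiples p.primeCompl Finset.univ w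
      choose w₀ hw₀ using fun i => ht i (Finset.mem_univ i)
      obtain ⟨c, hc, hcx⟩ := hzero ((t : R) • x - Φ₀ *ᵥ w₀) fun i => by
        rw [Pi.sub_apply, map_sub, Pi.smul_apply, smul_eq_mul, map_mul,
          ← congrFun (McCoy.map_mulVec_eq (algebraMap R S) Φ₀ w₀) i,
          show (fun j => algebraMap R S (w₀ j)) = algebraMap R S t • w from
            funext fun j => (hw₀ j).trans (Algebra.smul_def _ _),
          Matrix.mulVec_smul, hw, Pi.smul_apply, smul_eq_mul, sub_self]
      refine ⟨c * t, (p.primeCompl.mul_mem hc t.2), ⟨c • w₀, ?_⟩⟩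
      rw [smul_sub, sub_eq_zero, smul_smul] at hcx
      rw [map_smul, Matrix.mulVecLin_apply, ← hcx]
  let f := c₁ * c₂ * c₃ * c₄
  refine ⟨f, p.primeCompl.mul_mem (p.primeCompl.mul_mem (p.primeCompl.mul_mem hc₁ hc₂) hc₃) hc₄,
    fun T _ _ _ => ?_⟩
  have hf : IsUnit (algebraMap R T f) := IsLocalization.map_units T (⟨f, Submonoid.mem_powers f⟩ : Submonoid.powers f)
  have hdvd : ∀ {c : R}, c ∣ f → IsUnit (algebraMap R T c) := fun h => isUnit_of_dvd_unit (map_dvd _ h) hf
  refine ⟨Φ₀.map (algebraMap R T), ex_of_approx Φ₀ (Submonoid.powers f) T hf (fun v hv => ?_) (fun v hv => ?_), ?_⟩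
  · rw [show f = c₁ * c₂ * c₄ * c₃ by ring, mul_smul, (Submodule.mem_bot R).1 (hc₃' v hv), smul_zero]
  · have : v ∈ LinearMap.ker (Fintype.linearCombination R (delta Φ₀)) := by
      rw [LinearMap.mem_ker, Fintype.linearCombination_apply]
      exact (Finset.sum_congr rfl fun i _ => mul_comm _ _).trans hv
    rw [mul_smul]
    exact Submodule.smul_mem _ _ (hc₄' v this)
  · rw [← span_delta_map]
    have hmove : ∀ {J K : Ideal R} {c : R}, IsUnit (algebraMap R T c) → (∀ x ∈ J, c • x ∈ K) →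
        J.map (algebraMap R T) ≤ K.map (algebraMap R T) := fun {J K c} hc h =>
      Ideal.map_le_iff_le_comap.2 fun x hx => by
        have := Ideal.mem_map_of_mem (algebraMap R T) (h x hx)
        rw [smul_eq_mul, map_mul] at this
        exact (Ideal.unit_mul_mem_iff_mem _ hc).1 this
    exact le_antisymm (hmove (hdvd ⟨c₂ * c₃ * c₄, by ring⟩) hc₁') (hmove (hdvd ⟨c₁ * c₃ * c₄, by ring⟩) hc₂')

end Groth.Agent.HBLift76
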