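import Groth.Agent.HBLift76.Local
import Groth.Agent.HBLift76.Spread
import Groth.Agent.CIntLib.ClosedStalk
import Groth.Agent.GrpSchLib.SmoothRegular
import Groth.Agent.CMClosed.Basic

/-! Codimension two Cohen–Macaulay subschemes of smooth schemes are locally determinantal. -/

set_option autoImplicit false
set_option linter.style.haveILetI false
set_option backward.isDefEq.respectTransparency false
universe u

open CategoryTheory AlgebraicGeometry
open Groth.Agent.McCoy (delta)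

namespace Groth.Agent.HBLift76

theorem exists_affine_hb (k : Type u) [Field k] {X Y : Scheme.{u}} (f : X ⟶ Spec (CommRingCat.of k)) [Smooth f]
    (ι : Y ⟶ X) [IsClosedImmersion ι] (hCM : ∀ y : Y, LocCoh.IsCohenMacaulayLocalRing (Y.presheaf.stalk y))
    (hcodim : ∀ y : Y, ringKrullDim (Y.presheaf.stalk y) + 2 = ringKrullDim (X.presheaf.stalk (ι.base y)))
    (y : Y) :
    ∃ U : X.affineOpens, ι.base y ∈ (U : X.Opens) ∧ ∃ (r : ℕ) (φ : Matrix (Fin (r + 1)) (Fin r) Γ(X, U)),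
      Ex φ ∧ Ideal.span (Set.range (delta φ)) = ι.ker.ideal U := by
  haveI : IsLocallyNoetherian X := LocallyOfFiniteType.isLocallyNoetherian f
  obtain ⟨_, ⟨U, hU, rfl⟩, hyU, -⟩ :=
    X.isBasis_affineOpens.exists_subset_of_mem_open (Set.mem_univ (ι.base y)) isOpen_univ
  haveI : IsNoetherianRing Γ(X, U) := IsLocallyNoetherian.component_noetherian ⟨U, hU⟩
  let _ : Algebra Γ(X, U) (X.presheaf.stalk (ι.base y)) := X.presheaf.algebra_section_stalk (⟨ι.base y, hyU⟩ : U)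
  haveI : IsLocalization.AtPrime (X.presheaf.stalk (ι.base y)) (hU.primeIdealOf ⟨ι.base y, hyU⟩).asIdeal :=
    hU.isLocalization_stalk ⟨ι.base y, hyU⟩
  haveI := GrpSchLib.isRegularLocalRing_stalk_of_smooth f (ι.base y)
  let I := RingHom.ker (ι.stalkMap y).hom
  have hI : I ≠ ⊤ := RingHom.ker_ne_top _
  let e : (X.presheaf.stalk (ι.base y) ⧸ I) ≃+* Y.presheaf.stalk y := CIntLib.stalkQuotEquiv ι y
  haveI := hCM y
  haveI : LocCoh.IsCohenMacaulayLocalRing (X.presheaf.stalk (ι.base y) ⧸ I) := CMClosed.of_ringEquiv e.symm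
  obtain ⟨r, Ψ, hΨI, hΨ⟩ := exists_matrix_local I hI (by rw [ringKrullDim_eq_of_ringEquiv e]; exact hcodim y)
  have hker : I = (ι.ker.ideal ⟨U, hU⟩).map (algebraMap Γ(X, U) (X.presheaf.stalk (ι.base y))) :=
    CIntLib.ker_stalkMap_eq_map_germ ι y ⟨U, hU⟩ hyU
  obtain ⟨g, hg, hT⟩ := exists_spread (hU.primeIdealOf ⟨ι.base y, hyU⟩).asIdeal (X.presheaf.stalk (ι.base y))
    (ι.ker.ideal ⟨U, hU⟩) Ψ hΨ (hΨI.trans hker)
  haveI : IsLocalization.Away g Γ(X, X.basicOpen g) := hU.isLocalization_basicOpen g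
  obtain ⟨φ, hφ, hφI⟩ := hT Γ(X, X.basicOpen g)
  refine ⟨⟨X.basicOpen g, hU.basicOpen g⟩, (X.mem_basicOpen g _ hyU).2 ?_, r, φ, hφ, ?_⟩
  · exact (IsLocalization.AtPrime.isUnit_to_map_iff (X.presheaf.stalk (ι.base y))
      (hU.primeIdealOf ⟨ι.base y, hyU⟩).asIdeal g).2 hg
  · rw [hφI]
    exact ι.ker.map_ideal_basicOpen ⟨U, hU⟩ g

end Groth.Agent.HBLift76
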