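import Groth.Agent.HBLift76.SchemeHB
import Groth.Agent.HBLift76.Induct
import Groth.Agent.HBLift76.Extend
import Groth.Agent.ArtFunLib.HilbFib
import Groth.Agent.SurfInt.Curve
import Groth.Agent.QCoh.OpenSub
import Groth.Agent.PnCoh.Chow.Relative

/-! Unobstructedness of Cohen–Macaulay subschemes of codimension two. -/

set_option autoImplicit false
set_option linter.style.haveILetI false
set_option backward.isDefEq.respectTransparency false
universe u

open CategoryTheory CategoryTheory.Limits AlgebraicGeometry ArtFun ArtFun.Art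

namespace Groth.Agent.HBLift76

open Groth.Agent Groth.Agent.ArtFunLib Groth.Agent.ArtFunLib.HilbAffine Groth.Agent.ArtFunLib.HilbSit
open Groth.Agent.McCoy (delta)

variable {k : Type u} [Field k] {X : Scheme.{u}} (x : X ⟶ specPt k) [IsLocallyNoetherian X]

theorem exists_local_lift_hb (I₀ : X.IdealSheafData) (U : X.affineOpens) {r : ℕ}
    (φ : Matrix (Fin (r + 1)) (Fin r) Γ(X, U.1)) (hφ : Ex φ) (hI : Ideal.span (Set.range (delta φ)) = I₀.ideal U)
    {B A : Art k k} (p : B ⟶ A) (hp : Function.Surjective p) (IA : (localHilb X x I₀).obj A) :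
    ∃ J : Ideal Γ(XA x B, (W x B U).1), ((Ideal.Quotient.mk J).comp (c x B U)).Flat ∧
      J.map (pi x p U) = IA.1.ideal (W x A U) := by
  haveI : IsNoetherianRing Γ(X, U.1) := IsLocallyNoetherian.component_noetherian U
  let M : ∀ D : Art k k, Model (c x D U) (IsLocalRing.maximalIdeal D) k Γ(X, U.1) := fun D =>
    ⟨D.res.toRingHom, rho x D U, HilbFib.cU x U, D.res_surjective, (rho_spec x D U).1,
      IsLocalRing.eq_maximalIdeal (RingHom.ker_isMaximal_of_surjective _ D.res_surjective),
      (rho_spec x D U).2, fun b => (HilbFib.rho_c x D U b).symm⟩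
  haveI : IsNoetherianRing (Γ(XA x A, (W x A U).1) ⧸ (IsLocalRing.maximalIdeal A).map (c x A U)) :=
    isNoetherianRing_of_ringEquiv Γ(X, U.1)
      ((Ideal.quotEquivOfEq (rho_spec x A U).2.symm).trans
        (RingHom.quotientKerEquivOfSurjective (rho_spec x A U).1)).symm
  obtain ⟨ΦA, hΦA, hIA⟩ := exists_matrix (flat_c x A U) (IA.1.ideal (W x A U)) (flat_quotient x IA.1 IA.2.1 U) _
    (M A) φ hφ (by rw [hI]; exact HilbFib.map_rho IA U)
  choose Φ hΦ using fun i j => (pi_spec x p hp U).1 (ΦA i j)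
  have hm : (Matrix.of Φ).map (pi x p U) = ΦA := Matrix.ext hΦ
  have hρ : (Matrix.of Φ).map (M B).π = φ := by
    ext i j
    show rho x B U (Φ i j) = φ i j
    rw [← rho_pi x p U, hΦ, ← hΦA]
    rfl
  obtain ⟨-, hflat⟩ := lift_ex (flat_c x B U) (Matrix.of Φ) _ (M B) (hρ.symm ▸ hφ) (by
    show ((Ideal.Quotient.mk _).comp (HilbFib.cU x U)).Flat
    letI : Algebra k (Γ(X, U.1) ⧸ Ideal.span (Set.range (delta ((Matrix.of Φ).map (M B).π)))) :=
      ((Ideal.Quotient.mk _).comp (HilbFib.cU x U)).toAlgebra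
    exact RingHom.flat_algebraMap_iff.2 inferInstance)
  exact ⟨_, hflat, by rw [span_delta_map, hm, ← hIA]⟩

/-- Vanishing of `H¹` of the normal sheaf passes to the scheme-theoretic image. -/
theorem subsingleton_h1_image {Y : Scheme.{u}} (i : Y ⟶ X) [IsClosedImmersion i]
    [DCoh.HasSheafHom (Omega.conormal i)]
    (h1 : Subsingleton (Coh.HH Y ((DCoh.sheafHom (Omega.conormal i)).obj (Coh.structureModule Y)) 1)) :
    Subsingleton (Coh.HH i.ker.subscheme ((SheafHomX.hom ((Scheme.Modules.pullback i.ker.subschemeι).obj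
      (ClSub.idealMod i.ker))).obj (Coh.structureModule i.ker.subscheme)) 1) := by
  let e := SurfInt.kerIso i
  let j := e.inv
  have hj : j ≫ i = i.ker.subschemeι := (Iso.inv_comp_eq _).2 (SurfInt.kerIso_hom i).symm
  have h2 : Subsingleton (Coh.HH Y ((SheafHomX.hom (Omega.conormal i)).obj (Coh.structureModule Y)) 1) :=
    AmpleVan.subsingleton_of_iso ((AmpleVan.sheafHomIso (Omega.conormal i)).app _) 1 h1
  have hr : j.opensRange = ⊤ := TopologicalSpace.Opens.ext (Set.range_eq_univ.2 j.surjective)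
  have h3 := QCoh.subsingleton_HH_restrict j ((SheafHomX.hom (Omega.conormal i)).obj (Coh.structureModule Y)) 0 (by
    rw [hr]
    exact PnCoh.Chow.subsingleton_HU_top _ 1 h2)
  let eM : (Scheme.Modules.pullback i.ker.subschemeι).obj (ClSub.idealMod i.ker) ≅
      (Scheme.Modules.restrictFunctor j).obj (Omega.conormal i) :=
    ((Scheme.Modules.pullbackComp j i).app _ ≪≫ (Scheme.Modules.pullbackCongr hj).app _).symm ≪≫
      ((Scheme.Modules.restrictFunctorIsoPullback j).app _).symm
  refine QCoh.subsingleton_HH_of_iso ?_ 1 h3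
  refine (SheafHomX.restrictIso j (Omega.conormal i)).app _ ≪≫
    (SheafHomX.hom _).mapIso (Scheme.Modules.restrictUnitIso j) ≪≫ ?_
  exact
    { hom := (SheafHomX.homMap eM.hom).app _
      inv := (SheafHomX.homMap eM.inv).app _
      hom_inv_id := by rw [← SheafHomX.homMap_comp, Iso.inv_hom_id, SheafHomX.homMap_id]
      inv_hom_id := by rw [← SheafHomX.homMap_comp, Iso.hom_inv_id, SheafHomX.homMap_id] }

/-- Codimension two Cohen–Macaulay subschemes with `H¹(N) = 0` are unobstructed. -/
theorem isSmooth_of_codim_two [Smooth x] {Y : Scheme.{u}} (i : Y ⟶ X) [IsClosedImmersion i]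
    (hCM : ∀ y : Y, LocCoh.IsCohenMacaulayLocalRing (Y.presheaf.stalk y))
    (hcodim : ∀ y : Y, ringKrullDim (Y.presheaf.stalk y) + 2 = ringKrullDim (X.presheaf.stalk (i.base y)))
    [DCoh.HasSheafHom (Omega.conormal i)]
    (h1 : Subsingleton (Coh.HH Y ((DCoh.sheafHom (Omega.conormal i)).obj (Coh.structureModule Y)) 1)) :
    IsSmoothFunctor (localHilb X x i.ker) := by
  refine HilbLci76.isSmooth_of_extend X x i.ker
    (fun φ _ κ hl => exists_extend_of_locally i.ker (subsingleton_h1_image i h1) φ κ hl) fun B A q hq IA z => ?_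
  obtain ⟨U, hz, r, φ, hφ, hI⟩ := exists_affine_hb k x i hCM hcodim ((SurfInt.kerIso i).inv z)
  refine ⟨U, ?_, exists_local_lift_hb x i.ker U φ hφ hI q hq.1 IA⟩
  have e : (SurfInt.kerIso i).inv ≫ i = i.ker.subschemeι :=
    (Iso.inv_comp_eq _).2 (SurfInt.kerIso_hom i).symm
  rw [← e]
  exact hz

end Groth.Agent.HBLift76
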